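import Mathlib
import Groth.Prelude.Def_W4c2filtblowupsingRees

/-!
# The extended Rees algebra of a filtration: monomials, noetherianity, the Laurent localisation
-/

namespace GrothLib.ReesGr1

open LaurentPolynomial

universe u

variable {A : Type u} [CommRing A] (𝓕 : FiltBl.IdealFiltration A)

theorem mem_CT {a : A} {n : ℤ} (ha : a ∈ 𝓕.F n.toNat) : C a * T n ∈ 𝓕.extRees := by
  intro m
  rw [← single_eq_C_mul_T, AddMonoidAlgebra.coeff_single, Finsupp.single_apply]
  split_ifs with h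
  · subst h; exact ha
  · exact zero_mem _

/-- A homogeneous element of the extended Rees algebra. -/
noncomputable def mon (a : A) (n : ℤ) (ha : a ∈ 𝓕.F n.toNat) : 𝓕.extRees := ⟨C a * T n, mem_CT 𝓕 ha⟩

theorem toLaurent_mem {p : Polynomial A} (hp : p ∈ 𝓕.rees) : Polynomial.toLaurent p ∈ 𝓕.extRees := by
  rw [p.as_sum_range, map_sum]
  refine Subalgebra.sum_mem _ fun n _ ↦ ?_
  rw [Polynomial.toLaurent_C_mul_T]
  exact mem_CT 𝓕 (by simpa using hp n)

/-- The Rees algebra inside the extended one. -/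
noncomputable def ι : 𝓕.rees →+* 𝓕.extRees :=
  ((Polynomial.toLaurent (R := A)).comp 𝓕.rees.val.toRingHom).codRestrict 𝓕.extRees
    fun p ↦ toLaurent_mem 𝓕 p.2

theorem ι_coe (p : 𝓕.rees) : (ι 𝓕 p : A[T;T⁻¹]) = Polynomial.toLaurent (p : Polynomial A) := rfl

/-- The extended Rees algebra is generated by the Rees algebra and `u`. -/
noncomputable def Φ : Polynomial 𝓕.rees →+* 𝓕.extRees := Polynomial.eval₂RingHom (ι 𝓕) 𝓕.u

theorem Φ_surjective : Function.Surjective (Φ 𝓕) := by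
  suffices h : ∀ f : A[T;T⁻¹], f ∈ 𝓕.extRees → ∃ q, ((Φ 𝓕 q : 𝓕.extRees) : A[T;T⁻¹]) = f by
    intro x
    obtain ⟨q, hq⟩ := h x x.2
    exact ⟨q, Subtype.ext hq⟩
  intro f hf
  classical
  have hsum : f = ∑ n ∈ f.coeff.support, C (f.coeff n) * T n := by
    conv_lhs => rw [← AddMonoidAlgebra.sum_single f]
    exact Finset.sum_congr rfl fun n _ ↦ single_eq_C_mul_T _ _
  have hmon : ∀ n, ∃ q, ((Φ 𝓕 q : 𝓕.extRees) : A[T;T⁻¹]) = C (f.coeff n) * T n := by
    intro n
    obtain ⟨m, rfl | rfl⟩ := Int.eq_nat_or_neg n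
    · have hm : Polynomial.monomial m (f.coeff (m : ℤ)) ∈ 𝓕.rees := fun k ↦ by
        rw [Polynomial.coeff_monomial]
        split_ifs with h
        · subst h; simpa using hf (m : ℤ)
        · exact zero_mem _
      refine ⟨Polynomial.C ⟨_, hm⟩, ?_⟩
      rw [Φ, Polynomial.coe_eval₂RingHom, Polynomial.eval₂_C, ι_coe, Polynomial.toLaurent_C_mul_T]
    · refine ⟨Polynomial.C (algebraMap A 𝓕.rees (f.coeff (-(m : ℤ)))) * Polynomial.X ^ m, ?_⟩
      rw [Φ, Polynomial.coe_eval₂RingHom, Polynomial.eval₂_mul, Polynomial.eval₂_C,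
        Polynomial.eval₂_X_pow, Subalgebra.coe_mul, ι_coe, Subalgebra.coe_pow]
      show Polynomial.toLaurent (algebraMap A (Polynomial A) (f.coeff (-(m : ℤ)))) * T (-1) ^ m = _
      rw [Polynomial.algebraMap_apply, Algebra.algebraMap_self, RingHom.id_apply,
        Polynomial.toLaurent_C, T_pow, mul_neg, mul_one]
  choose q hq using hmon
  refine ⟨∑ n ∈ f.coeff.support, q n, ?_⟩
  rw [map_sum, AddSubmonoidClass.coe_finsetSum]
  conv_rhs => rw [hsum]
  exact Finset.sum_congr rfl fun n _ ↦ hq n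

theorem isNoetherianRing_extRees [IsNoetherianRing A] [Algebra.FiniteType A 𝓕.rees] :
    IsNoetherianRing 𝓕.extRees := by
  haveI : IsNoetherianRing 𝓕.rees := Algebra.FiniteType.isNoetherianRing A _
  exact isNoetherianRing_of_surjective _ _ (Φ 𝓕) (Φ_surjective 𝓕)

theorem u_mem_nonZeroDivisors : 𝓕.u ∈ nonZeroDivisors 𝓕.extRees := by
  rw [mem_nonZeroDivisors_iff_right]
  intro x hx
  have h := congrArg Subtype.val hx
  rw [Subalgebra.coe_mul, ZeroMemClass.coe_zero] at h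
  exact Subtype.ext ((isUnit_T (-1)).mul_left_eq_zero.mp h)

theorem algebraMap_extRees (a : A) : ((algebraMap A 𝓕.extRees a : 𝓕.extRees) : A[T;T⁻¹]) = C a :=
  (C_eq_algebraMap a).symm

theorem algebraMap_laurent (x : 𝓕.extRees) : algebraMap 𝓕.extRees A[T;T⁻¹] x = (x : A[T;T⁻¹]) := rfl

/-- Inverting `u` gives the Laurent polynomial ring. -/
instance isLocalization_u : IsLocalization.Away 𝓕.u A[T;T⁻¹] := by
  refine IsLocalization.Away.mk 𝓕.u (by rw [algebraMap_laurent]; exact isUnit_T (-1)) (fun f ↦ ?_)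
    fun a b e ↦ ⟨0, by rw [pow_zero, one_mul, one_mul]; exact Subtype.ext e⟩
  induction f using LaurentPolynomial.induction_on' with
  | add p q hp hq =>
    obtain ⟨n, a, ha⟩ := hp
    obtain ⟨m, b, hb⟩ := hq
    refine ⟨n + m, 𝓕.u ^ m * a + 𝓕.u ^ n * b, ?_⟩
    simp only [map_add, map_mul, map_pow, ← ha, ← hb, algebraMap_laurent] at ha hb ⊢
    rw [pow_add]; ring
  | C_mul_T n a =>
    refine ⟨n.toNat, mon 𝓕 a (n - n.toNat) ?_, ?_⟩
    · rw [show (n - (n.toNat : ℤ)).toNat = 0 by omega, 𝓕.zero_eq]; exact Submodule.mem_top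
    · rw [algebraMap_laurent, algebraMap_laurent]
      show C a * T n * T (-1) ^ n.toNat = C a * T (n - n.toNat)
      rw [T_pow, mul_assoc, ← T_add, mul_neg, mul_one, sub_eq_add_neg]

end GrothLib.ReesGr1
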