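import Mathlib
import Groth.Agent.Lib.GorFlat.Rings
import Groth.Agent.Lib.Gor.Basic
import Groth.Agent.Lib.CMMor6.Algebra
import Groth.Agent.Lib.SyntLoc.Sk
import Groth.Agent.Lib.SkFlat5.Main
import Groth.Agent.Lib.LiaisonCM.Linked

/-!
# Transfer of local properties along a regular element, localisations and flat maps
-/

set_option linter.style.haveILetI false

open IsLocalRing

namespace GrothLib.ReesGr1

universe u

/-- The local rings of a localisation. -/
theorem nonempty_locEquiv {R S : Type u} [CommRing R] [CommRing S] [Algebra R S] (M : Submonoid R)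
    [IsLocalization M S] (Q : Ideal S) [Q.IsPrime] :
    Nonempty (Localization.AtPrime (Q.comap (algebraMap R S)) ≃+* Localization.AtPrime Q) :=
  haveI : IsLocalization.AtPrime (Localization.AtPrime Q) (Q.comap (algebraMap R S)) :=
    IsLocalization.isLocalization_isLocalization_atPrime_isLocalization M (Localization.AtPrime Q) Q
  ⟨(IsLocalization.algEquiv (Q.comap (algebraMap R S)).primeCompl
    (Localization.AtPrime (Q.comap (algebraMap R S))) (Localization.AtPrime Q)).toRingEquiv⟩

/-- A prime avoiding the inverted element comes from the localisation. -/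
theorem exists_prime_away {R S : Type u} [CommRing R] [CommRing S] [Algebra R S] (t : R)
    [IsLocalization.Away t S] (P : Ideal R) [hP : P.IsPrime] (ht : t ∉ P) :
    ∃ (Q : Ideal S) (_ : Q.IsPrime), Q.comap (algebraMap R S) = P := by
  have hd : Disjoint ((Submonoid.powers t : Submonoid R) : Set R) (P : Set R) :=
    Set.disjoint_left.mpr fun x ⟨n, hn⟩ hx ↦ ht (hP.mem_of_pow_mem n (by rw [show t ^ n = x from hn]; exact hx))
  exact ⟨P.map (algebraMap R S), IsLocalization.isPrime_of_isPrime_disjoint (Submonoid.powers t) S P hP hd,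
    IsLocalization.comap_map_of_isPrime_disjoint (Submonoid.powers t) S hP hd⟩

/-- The local rings of a quotient by one element. -/
theorem nonempty_quotEquiv {R G : Type u} [CommRing R] [CommRing G] (φ : R →+* G)
    (hφ : Function.Surjective φ) {t : R} (hker : RingHom.ker φ = Ideal.span {t}) (p : Ideal G) [p.IsPrime] :
    Nonempty ((Localization.AtPrime (p.comap φ) ⧸
      Ideal.span {algebraMap R (Localization.AtPrime (p.comap φ)) t}) ≃+* Localization.AtPrime p) := by
  let P := p.comap φ
  have hT : Submonoid.map φ P.primeCompl = p.primeCompl := by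
    ext x
    constructor
    · rintro ⟨y, hy, rfl⟩; exact hy
    · intro hx
      obtain ⟨y, rfl⟩ := hφ x
      exact ⟨y, hx, rfl⟩
  let ψ : Localization.AtPrime P →+* Localization.AtPrime p :=
    IsLocalization.map (Localization.AtPrime p) φ (T := p.primeCompl) (hT ▸ P.primeCompl.le_comap_map)
  have hψ : Function.Surjective ψ := by
    intro z
    obtain ⟨⟨b, s⟩, rfl⟩ := IsLocalization.mk'_surjective p.primeCompl z
    obtain ⟨a, rfl⟩ := hφ b
    obtain ⟨c, hc, hcs⟩ : (s : G) ∈ Submonoid.map φ P.primeCompl := hT.symm ▸ s.2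
    refine ⟨IsLocalization.mk' _ a ⟨c, hc⟩, ?_⟩
    rw [IsLocalization.map_mk']
    congr 1
    exact Subtype.ext hcs
  have hk : RingHom.ker ψ = Ideal.span {algebraMap R (Localization.AtPrime P) t} := by
    rw [IsLocalization.ker_map _ _ hT, hker, Ideal.map_span, Set.image_singleton]
  exact ⟨(Ideal.quotEquivOfEq hk.symm).trans (RingHom.quotientKerEquivOfSurjective hψ)⟩

section Quotient

variable {S : Type u} [CommRing S] [IsLocalRing S] [IsNoetherianRing S] {t : S}

theorem depth_quot_add_one [IsLocalRing (S ⧸ Ideal.span {t})] (ht : t ∈ maximalIdeal S)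
    (hreg : IsSMulRegular S t) :
    LocCoh.depth (S ⧸ Ideal.span {t}) (S ⧸ Ideal.span {t}) + 1 = LocCoh.depth S S := by
  have h1 := GrothLib.Depth.idealDepth_quotSMulTop_add_one (M := S) (maximalIdeal S) ht hreg
  let e : QuotSMulTop t S ≃ₗ[S] (S ⧸ Ideal.span {t}) := Submodule.quotEquivOfEq _ _
    (by rw [← Submodule.ideal_span_singleton_smul, smul_eq_mul, Ideal.mul_top])
  rw [GrothLib.Depth.idealDepth_eq_of_equiv _ e] at h1
  have h2 := GrothLib.Depth.idealDepth_map_eq (B := S ⧸ Ideal.span {t}) (maximalIdeal S) (S ⧸ Ideal.span {t})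
  rw [Ideal.Quotient.algebraMap_eq, GrothLib.RegLoc.map_maximalIdeal_quotient] at h2
  rw [← h2] at h1
  exact h1

theorem isLocalRing_quot_span (ht : t ∈ maximalIdeal S) : IsLocalRing (S ⧸ Ideal.span {t}) :=
  haveI : Nontrivial (S ⧸ Ideal.span {t}) := Ideal.Quotient.nontrivial_iff.2 fun h ↦
    (maximalIdeal.isMaximal S).ne_top (top_le_iff.1 (h ▸ (Ideal.span_singleton_le_iff_mem _).2 ht))
  IsLocalRing.of_surjective' (Ideal.Quotient.mk _) Ideal.Quotient.mk_surjective

theorem add_one_inj_of_dim {a : WithBot ℕ∞} {c : ℕ∞} :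
    a + 1 = ((c + 1 : ℕ∞) : WithBot ℕ∞) ↔ a = (c : WithBot ℕ∞) := by
  constructor
  · intro h
    rw [WithBot.coe_add, WithBot.coe_one] at h
    exact le_antisymm (GrothLib.SkLift5.le_of_add_one_le h.le) (GrothLib.SkLift5.le_of_add_one_le h.ge)
  · rintro rfl
    rw [WithBot.coe_add, WithBot.coe_one]

/-- Cohen–Macaulayness and a regular element. -/
theorem cm_iff_quot (ht : t ∈ maximalIdeal S) (hreg : IsSMulRegular S t) :
    LocCoh.IsCohenMacaulayLocalRing (S ⧸ Ideal.span {t}) ↔ LocCoh.IsCohenMacaulayLocalRing S := by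
  haveI := isLocalRing_quot_span ht
  refine ⟨fun _ ↦ GrothLib.LiaisonCM.cm_of_quot_span ht hreg, fun h ↦ ⟨?_⟩⟩
  have h1 := h.supportDim_eq_depth
  rw [Module.supportDim_self_eq_ringKrullDim, ← ringKrullDim_quotient_span_singleton_succ_eq_ringKrullDim hreg ht,
    ← depth_quot_add_one ht hreg, add_one_inj_of_dim] at h1
  rw [Module.supportDim_self_eq_ringKrullDim]
  exact h1

theorem min_add_one_le_iff {k : ℕ} {a : WithBot ℕ∞} {c : ℕ∞} :
    min ((k + 1 : ℕ) : WithBot ℕ∞) (a + 1) ≤ ((c + 1 : ℕ∞) : WithBot ℕ∞) ↔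
      min (k : WithBot ℕ∞) a ≤ (c : WithBot ℕ∞) := by
  rw [Nat.cast_succ, min_add_add_right, WithBot.coe_add, WithBot.coe_one]
  exact ⟨GrothLib.SkLift5.le_of_add_one_le, fun h ↦ add_le_add h le_rfl⟩

/-- Serre's inequality and a regular element. -/
theorem skBound_iff_quot [IsLocalRing (S ⧸ Ideal.span {t})] {k : ℕ} (ht : t ∈ maximalIdeal S)
    (hreg : IsSMulRegular S t) :
    GrothLib.SyntLoc.SkBound k (S ⧸ Ideal.span {t}) ↔ GrothLib.SyntLoc.SkBound (k + 1) S := by
  unfold GrothLib.SyntLoc.SkBound
  rw [← depth_quot_add_one ht hreg, ← ringKrullDim_quotient_span_singleton_succ_eq_ringKrullDim hreg ht]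
  exact min_add_one_le_iff.symm

end Quotient

section Flat

variable {A B : Type u} [CommRing A] [CommRing B] [Algebra A B] [IsNoetherianRing A]
  [IsNoetherianRing B] [Module.Flat A B]

theorem local_data (P : Ideal B) [P.IsPrime] :
    ∃ (_ : Algebra (Localization.AtPrime (P.comap (algebraMap A B))) (Localization.AtPrime P))
      (_ : IsLocalHom (algebraMap (Localization.AtPrime (P.comap (algebraMap A B))) (Localization.AtPrime P))),
      Module.Flat (Localization.AtPrime (P.comap (algebraMap A B))) (Localization.AtPrime P) ∧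
      (maximalIdeal (Localization.AtPrime (P.comap (algebraMap A B)))).map
          (algebraMap (Localization.AtPrime (P.comap (algebraMap A B))) (Localization.AtPrime P)) =
        (P.comap (algebraMap A B)).map (algebraMap A (Localization.AtPrime P)) := by
  let p := P.comap (algebraMap A B)
  haveI : P.LiesOver p := ⟨rfl⟩
  letI := Localization.AtPrime.algebraOfLiesOver p P
  haveI := Excellent.flat_localization (A := A) P p
  refine ⟨inferInstance, ?_, inferInstance, Excellent.map_maximalIdeal_eq P p⟩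
  refine ((IsLocalRing.local_hom_TFAE _).out 0 2).2 ?_
  rw [Excellent.map_maximalIdeal_eq P p]
  refine Ideal.map_le_iff_le_comap.2 fun x hx => ?_
  rw [Ideal.mem_comap, IsScalarTower.algebraMap_apply A B (Localization.AtPrime P),
    IsLocalization.AtPrime.to_map_mem_maximal_iff _ P]
  exact hx

/-- Cohen–Macaulayness along a flat map, prime by prime. -/
theorem cm_atPrime_iff (P : Ideal B) [P.IsPrime] :
    LocCoh.IsCohenMacaulayLocalRing (Localization.AtPrime P) ↔
      (LocCoh.IsCohenMacaulayLocalRing (Localization.AtPrime (P.comap (algebraMap A B))) ∧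
        LocCoh.IsCohenMacaulayLocalRing (EGA4.FibLocRing A B P)) := by
  obtain ⟨_, _, _, hmax⟩ := local_data (A := A) P
  haveI : IsNoetherianRing (Localization.AtPrime (P.comap (algebraMap A B))) :=
    GrothLib.Depth.isNoetherian_atPrime _
  haveI : IsNoetherianRing (Localization.AtPrime P) := GrothLib.Depth.isNoetherian_atPrime _
  rw [GrothLib.CMMor6.cm_iff_of_flat_local (A := Localization.AtPrime (P.comap (algebraMap A B)))]
  exact and_congr_right' ⟨fun _ => GrothLib.HB26.isCohenMacaulayLocalRing_of_ringEquiv (Ideal.quotEquivOfEq hmax),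
    fun _ => GrothLib.HB26.isCohenMacaulayLocalRing_of_ringEquiv (Ideal.quotEquivOfEq hmax.symm)⟩

/-- Serre's inequality goes up along a flat map with Cohen–Macaulay fibre. -/
theorem skBound_atPrime {k : ℕ} (P : Ideal B) [P.IsPrime]
    (hF : LocCoh.IsCohenMacaulayLocalRing (EGA4.FibLocRing A B P))
    (hA : GrothLib.SyntLoc.SkBound k (Localization.AtPrime (P.comap (algebraMap A B)))) :
    GrothLib.SyntLoc.SkBound k (Localization.AtPrime P) := by
  obtain ⟨_, _, _, hmax⟩ := local_data (A := A) P
  haveI : IsNoetherianRing (Localization.AtPrime (P.comap (algebraMap A B))) :=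
    GrothLib.Depth.isNoetherian_atPrime _
  haveI : IsNoetherianRing (Localization.AtPrime P) := GrothLib.Depth.isNoetherian_atPrime _
  haveI hF' : LocCoh.IsCohenMacaulayLocalRing (Localization.AtPrime P ⧸
      (maximalIdeal (Localization.AtPrime (P.comap (algebraMap A B)))).map
        (algebraMap (Localization.AtPrime (P.comap (algebraMap A B))) (Localization.AtPrime P))) :=
    GrothLib.HB26.isCohenMacaulayLocalRing_of_ringEquiv (Ideal.quotEquivOfEq hmax.symm)
  have hf := hF'.supportDim_eq_depth
  rw [Module.supportDim_self_eq_ringKrullDim] at hf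
  unfold GrothLib.SyntLoc.SkBound at hA ⊢
  rw [GrothLib.CMMor6.ringKrullDim_eq_add (A := Localization.AtPrime (P.comap (algebraMap A B))),
    GrothLib.CMMor6.depth_eq_add (A := Localization.AtPrime (P.comap (algebraMap A B)))]
  exact GrothLib.SkFlat5.le_coe_add ringKrullDim_nonneg_of_nontrivial ringKrullDim_nonneg_of_nontrivial hA
    (hf ▸ min_le_right _ _)

end Flat

section Poly

variable {A : Type u} [CommRing A] [IsNoetherianRing A]

theorem fibre_regular (P : Ideal (MvPolynomial (Fin 1) A)) [P.IsPrime] :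
    LocCoh.IsCohenMacaulayLocalRing (EGA4.FibLocRing A (MvPolynomial (Fin 1) A) P) := by
  haveI : IsRegularRing ((P.comap (algebraMap A (MvPolynomial (Fin 1) A))).Fiber (MvPolynomial (Fin 1) A)) :=
    IsRegularRing.of_ringEquiv (MvPolynomial.algebraTensorAlgEquiv (σ := Fin 1) A
      (P.comap (algebraMap A (MvPolynomial (Fin 1) A))).ResidueField).symm.toRingEquiv
  haveI := Excellent.isRegularLocalRing_fibLocRing (A := A) P inferInstance
  haveI := GrothLib.GorFlat.gorenstein_of_isRegularLocalRing (EGA4.FibLocRing A (MvPolynomial (Fin 1) A) P)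
  exact Gor.isCohenMacaulayLocalRing _

theorem hasSk_mvPolynomial {k : ℕ} (h : LocCoh.HasSk k A A) :
    LocCoh.HasSk k (MvPolynomial (Fin 1) A) (MvPolynomial (Fin 1) A) := by
  rw [GrothLib.SyntLoc.hasSk_iff_skBound] at h ⊢
  exact fun P _ ↦ skBound_atPrime P (fibre_regular P) (h _)

theorem cm_mvPolynomial (P : Ideal (MvPolynomial (Fin 1) A)) [P.IsPrime]
    (h : LocCoh.IsCohenMacaulayLocalRing (Localization.AtPrime (P.comap (algebraMap A (MvPolynomial (Fin 1) A))))) :
    LocCoh.IsCohenMacaulayLocalRing (Localization.AtPrime P) :=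
  (cm_atPrime_iff P).2 ⟨h, fibre_regular P⟩

end Poly

end GrothLib.ReesGr1
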