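import Mathlib
import Groth.Agent.Lib.ReesGr1.Basic
import Groth.Agent.Lib.ReesGr1.Transfer
import Groth.Agent.Lib.FFDescent.Serre

/-!
# Local properties of Laurent polynomial rings, and of the extended Rees algebra
-/

set_option linter.style.haveILetI false

open IsLocalRing LaurentPolynomial

namespace GrothLib.ReesGr1

universe u

variable {A : Type u} [CommRing A]

instance isScalarTower_polynomial : IsScalarTower A (Polynomial A) A[T;T⁻¹] :=
  IsScalarTower.of_algebraMap_eq fun a ↦ by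
    rw [← C_eq_algebraMap, algebraMap_eq_toLaurent]
    exact (Polynomial.toLaurent_C a).symm

instance isNoetherianRing_laurent [IsNoetherianRing A] : IsNoetherianRing A[T;T⁻¹] :=
  IsLocalization.isNoetherianRing (Submonoid.powers (Polynomial.X : Polynomial A)) _ inferInstance

variable [IsNoetherianRing A]

/-- The local rings of the Laurent ring are local rings of the polynomial ring. -/
theorem exists_poly_prime (Q : Ideal A[T;T⁻¹]) [Q.IsPrime] :
    ∃ (P : Ideal (MvPolynomial (Fin 1) A)) (_ : P.IsPrime),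
      P.comap (algebraMap A (MvPolynomial (Fin 1) A)) = Q.comap (algebraMap A A[T;T⁻¹]) ∧
      Nonempty (Localization.AtPrime P ≃+* Localization.AtPrime Q) := by
  let e := (MvPolynomial.uniqueAlgEquiv A (Fin 1))
  let P₁ := Q.comap (algebraMap (Polynomial A) A[T;T⁻¹])
  haveI : (P₁.comap e.toRingEquiv.toRingHom).IsPrime := Ideal.IsPrime.comap _
  refine ⟨P₁.comap e.toRingEquiv.toRingHom, inferInstance, ?_, ?_⟩
  · ext a
    simp only [Ideal.mem_comap]
    show algebraMap (Polynomial A) A[T;T⁻¹] (e (algebraMap A _ a)) ∈ Q ↔ _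
    rw [e.commutes, ← IsScalarTower.algebraMap_apply]
  · obtain ⟨e₁⟩ := nonempty_locEquiv (Submonoid.powers (Polynomial.X : Polynomial A)) Q
    refine ⟨RingEquiv.trans ?_ e₁⟩
    refine IsLocalization.ringEquivOfRingEquiv (M := (P₁.comap e.toRingEquiv.toRingHom).primeCompl)
      (T := P₁.primeCompl) _ _ e.toRingEquiv ?_
    ext x
    constructor
    · rintro ⟨y, hy, rfl⟩; exact hy
    · intro hx
      exact ⟨e.toRingEquiv.symm x, fun h ↦ hx (by
        have := Ideal.mem_comap.1 h
        simpa using this), by simp⟩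

theorem cm_laurent (Q : Ideal A[T;T⁻¹]) [Q.IsPrime]
    (h : LocCoh.IsCohenMacaulayLocalRing (Localization.AtPrime (Q.comap (algebraMap A A[T;T⁻¹])))) :
    LocCoh.IsCohenMacaulayLocalRing (Localization.AtPrime Q) := by
  obtain ⟨P, _, hP, ⟨e⟩⟩ := exists_poly_prime Q
  haveI := cm_mvPolynomial P (by
    have : ∀ (I : Ideal A) (_ : I.IsPrime), I = Q.comap (algebraMap A A[T;T⁻¹]) →
        LocCoh.IsCohenMacaulayLocalRing (Localization.AtPrime I) := by
      intro I _ hI; subst hI; exact h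
    exact this _ inferInstance hP)
  exact GrothLib.HB26.isCohenMacaulayLocalRing_of_ringEquiv e

theorem skBound_laurent {k : ℕ} (h : LocCoh.HasSk k A A) (Q : Ideal A[T;T⁻¹]) [Q.IsPrime] :
    GrothLib.SyntLoc.SkBound k (Localization.AtPrime Q) := by
  obtain ⟨P, _, -, ⟨e⟩⟩ := exists_poly_prime Q
  haveI : IsNoetherianRing (Localization.AtPrime P) := GrothLib.Depth.isNoetherian_atPrime _
  exact GrothLib.SyntLoc.skBound_congr e ((GrothLib.SyntLoc.hasSk_iff_skBound _).1 (hasSk_mvPolynomial h) P)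

theorem gorenstein_laurent (h : LocCoh.IsGorensteinRing A) (Q : Ideal A[T;T⁻¹]) [Q.IsPrime] :
    LocCoh.IsGorensteinLocalRing (Localization.AtPrime Q) := by
  obtain ⟨P, _, -, ⟨e⟩⟩ := exists_poly_prime Q
  exact (GrothLib.GorFlat.gorenstein_congr e).1
    ((GrothLib.GorFlat.isGorensteinRing_mvPolynomial h 1).isGorensteinLocalRing_localization P)

/-- The extension of a prime of the base. -/
theorem exists_ext_prime (q : Ideal A) [q.IsPrime] :
    ∃ (Q : Ideal A[T;T⁻¹]) (_ : Q.IsPrime), Q.comap (algebraMap A A[T;T⁻¹]) = q ∧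
      Q = q.map (algebraMap A A[T;T⁻¹]) := by
  let P := q.map (Polynomial.C : A →+* Polynomial A)
  haveI hP : P.IsPrime := (Ideal.isPrime_map_C_iff_isPrime q).2 inferInstance
  have hd : Disjoint ((Submonoid.powers (Polynomial.X : Polynomial A) : Submonoid _) : Set (Polynomial A))
      (P : Set (Polynomial A)) := by
    refine Set.disjoint_left.mpr fun x ⟨n, hn⟩ hx ↦ ?_
    have := Ideal.mem_map_C_iff.1 hx n
    rw [← show Polynomial.X ^ n = x from hn, Polynomial.coeff_X_pow_self] at this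
    exact Ideal.IsPrime.ne_top ‹q.IsPrime› ((Ideal.eq_top_iff_one q).2 this)
  have hQ := IsLocalization.isPrime_of_isPrime_disjoint _ A[T;T⁻¹] P hP hd
  have heq : P.map (algebraMap (Polynomial A) A[T;T⁻¹]) = q.map (algebraMap A A[T;T⁻¹]) := by
    rw [Ideal.map_map, ← Polynomial.algebraMap_eq, ← IsScalarTower.algebraMap_eq]
  refine ⟨_, hQ, ?_, heq⟩
  rw [IsScalarTower.algebraMap_eq A (Polynomial A) A[T;T⁻¹], ← Ideal.comap_comap,
    show Ideal.comap (algebraMap (Polynomial A) A[T;T⁻¹]) (P.map (algebraMap (Polynomial A) A[T;T⁻¹])) = P from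
      IsLocalization.under_map_of_isPrime_disjoint (Submonoid.powers (Polynomial.X : Polynomial A)) _ hP hd]
  ext a
  rw [Ideal.mem_comap, Polynomial.algebraMap_eq]
  constructor
  · intro h
    simpa using Ideal.mem_map_C_iff.1 h 0
  · exact fun h ↦ Ideal.mem_map_of_mem _ h

theorem cm_descend (q : Ideal A) [q.IsPrime] (Q : Ideal A[T;T⁻¹]) [Q.IsPrime]
    (hq : Q.comap (algebraMap A A[T;T⁻¹]) = q)
    (h : LocCoh.IsCohenMacaulayLocalRing (Localization.AtPrime Q)) :
    LocCoh.IsCohenMacaulayLocalRing (Localization.AtPrime q) := by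
  subst hq
  exact ((cm_atPrime_iff Q).1 h).1

theorem gorenstein_descend (h : ∀ (Q : Ideal A[T;T⁻¹]) [Q.IsPrime],
    LocCoh.IsGorensteinLocalRing (Localization.AtPrime Q)) : LocCoh.IsGorensteinRing A where
  isGorensteinLocalRing_localization q _ := by
    obtain ⟨Q, _, hq, -⟩ := exists_ext_prime q
    subst hq
    exact ((GrothLib.GorFlat.gorenstein_atPrime_iff Q).1 (h Q)).1

omit [IsNoetherianRing A] in
theorem faithfullyFlat_laurent : Module.FaithfullyFlat A A[T;T⁻¹] := by
  rcases subsingleton_or_nontrivial A with h | h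
  · exact { submodule_ne_top := fun m hm => absurd (Subsingleton.elim _ _) hm.ne_top }
  · infer_instance

section Rees

variable (𝓕 : FiltBl.IdealFiltration A)

theorem isSMulRegular_u (P : Ideal 𝓕.extRees) [P.IsPrime] :
    IsSMulRegular (Localization.AtPrime P) (algebraMap 𝓕.extRees (Localization.AtPrime P) 𝓕.u) := by
  intro x y hxy
  obtain ⟨⟨a, s⟩, rfl⟩ := IsLocalization.mk'_surjective P.primeCompl x
  obtain ⟨⟨b, r⟩, rfl⟩ := IsLocalization.mk'_surjective P.primeCompl y
  simp only [smul_eq_mul, IsLocalization.mul_mk'_eq_mk'_of_mul] at hxy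
  obtain ⟨c, hc⟩ := IsLocalization.eq.1 hxy
  refine IsLocalization.eq.2 ⟨c, ?_⟩
  have hu := u_mem_nonZeroDivisors 𝓕
  refine (mul_cancel_left_mem_nonZeroDivisors hu).1 ?_
  linear_combination hc

theorem u_mem_maximal {P : Ideal 𝓕.extRees} [P.IsPrime] (h : 𝓕.u ∈ P) :
    algebraMap 𝓕.extRees (Localization.AtPrime P) 𝓕.u ∈ maximalIdeal (Localization.AtPrime P) :=
  (IsLocalization.AtPrime.to_map_mem_maximal_iff _ P _).2 h

/-- A prime of the quotient by `u`, pulled back. -/
theorem exists_quot_prime {G : Type u} [CommRing G] (φ : 𝓕.extRees →+* G) (hφ : Function.Surjective φ)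
    (hker : RingHom.ker φ = Ideal.span {𝓕.u}) (P : Ideal 𝓕.extRees) [P.IsPrime] (h : 𝓕.u ∈ P) :
    ∃ (p : Ideal G) (_ : p.IsPrime), p.comap φ = P := by
  have hle : RingHom.ker φ ≤ P := by rw [hker]; exact (Ideal.span_singleton_le_iff_mem _).2 h
  refine ⟨P.map φ, Ideal.map_isPrime_of_surjective hφ hle, ?_⟩
  rw [Ideal.comap_map_of_surjective φ hφ, ← RingHom.ker_eq_comap_bot, sup_eq_left.2 hle]

theorem u_mem_comap {G : Type u} [CommRing G] (φ : 𝓕.extRees →+* G)
    (hker : RingHom.ker φ = Ideal.span {𝓕.u}) (p : Ideal G) : 𝓕.u ∈ p.comap φ := by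
  have : 𝓕.u ∈ RingHom.ker φ := by rw [hker]; exact Ideal.mem_span_singleton_self _
  rw [Ideal.mem_comap, RingHom.mem_ker.1 this]
  exact zero_mem _

variable [IsNoetherianRing 𝓕.extRees]

/-- Cohen–Macaulayness at a prime containing `u`. -/
theorem cm_quot_iff {G : Type u} [CommRing G] (φ : 𝓕.extRees →+* G) (hφ : Function.Surjective φ)
    (hker : RingHom.ker φ = Ideal.span {𝓕.u}) (p : Ideal G) [p.IsPrime] :
    LocCoh.IsCohenMacaulayLocalRing (Localization.AtPrime p) ↔
      LocCoh.IsCohenMacaulayLocalRing (Localization.AtPrime (p.comap φ)) := by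
  haveI : IsNoetherianRing (Localization.AtPrime (p.comap φ)) := GrothLib.Depth.isNoetherian_atPrime _
  obtain ⟨e⟩ := nonempty_quotEquiv φ hφ hker p
  rw [← cm_iff_quot (S := Localization.AtPrime (p.comap φ))
    (t := algebraMap 𝓕.extRees (Localization.AtPrime (p.comap φ)) 𝓕.u)
    (u_mem_maximal 𝓕 (u_mem_comap 𝓕 φ hker p)) (isSMulRegular_u 𝓕 _)]
  exact ⟨fun _ ↦ GrothLib.HB26.isCohenMacaulayLocalRing_of_ringEquiv e.symm,
    fun _ ↦ GrothLib.HB26.isCohenMacaulayLocalRing_of_ringEquiv e⟩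

theorem gorenstein_quot_iff {G : Type u} [CommRing G] (φ : 𝓕.extRees →+* G) (hφ : Function.Surjective φ)
    (hker : RingHom.ker φ = Ideal.span {𝓕.u}) (p : Ideal G) [p.IsPrime] :
    LocCoh.IsGorensteinLocalRing (Localization.AtPrime p) ↔
      LocCoh.IsGorensteinLocalRing (Localization.AtPrime (p.comap φ)) := by
  haveI : IsNoetherianRing (Localization.AtPrime (p.comap φ)) := GrothLib.Depth.isNoetherian_atPrime _
  obtain ⟨e⟩ := nonempty_quotEquiv φ hφ hker p
  rw [← GrothLib.GorFlat.gorenstein_congr e,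
    GrothLib.GorFlat.gorenstein_quot_iff (u_mem_maximal 𝓕 (u_mem_comap 𝓕 φ hker p)) (isSMulRegular_u 𝓕 _)]

theorem skBound_quot_iff {k : ℕ} {G : Type u} [CommRing G] (φ : 𝓕.extRees →+* G)
    (hφ : Function.Surjective φ) (hker : RingHom.ker φ = Ideal.span {𝓕.u}) (p : Ideal G) [p.IsPrime] :
    GrothLib.SyntLoc.SkBound k (Localization.AtPrime p) ↔
      GrothLib.SyntLoc.SkBound (k + 1) (Localization.AtPrime (p.comap φ)) := by
  haveI : IsNoetherianRing (Localization.AtPrime (p.comap φ)) := GrothLib.Depth.isNoetherian_atPrime _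
  have hu := u_mem_maximal 𝓕 (u_mem_comap 𝓕 φ hker p)
  haveI := isLocalRing_quot_span (S := Localization.AtPrime (p.comap φ))
    (t := algebraMap 𝓕.extRees (Localization.AtPrime (p.comap φ)) 𝓕.u) hu
  obtain ⟨e⟩ := nonempty_quotEquiv φ hφ hker p
  haveI : IsNoetherianRing (Localization.AtPrime p) := isNoetherianRing_of_ringEquiv _ e
  rw [← skBound_iff_quot (S := Localization.AtPrime (p.comap φ))
    (t := algebraMap 𝓕.extRees (Localization.AtPrime (p.comap φ)) 𝓕.u) hu (isSMulRegular_u 𝓕 _)]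
  exact ⟨GrothLib.SyntLoc.skBound_congr e.symm, GrothLib.SyntLoc.skBound_congr e⟩

/-- `R'` is Cohen–Macaulay iff the quotient by `u` is, given descent to the base. -/
theorem isCohenMacaulayRing_iff {G : Type u} [CommRing G] [IsNoetherianRing G] (φ : 𝓕.extRees →+* G)
    (hφ : Function.Surjective φ) (hker : RingHom.ker φ = Ideal.span {𝓕.u})
    (hA : LocCoh.IsCohenMacaulayRing G → LocCoh.IsCohenMacaulayRing A) :
    LocCoh.IsCohenMacaulayRing 𝓕.extRees ↔ LocCoh.IsCohenMacaulayRing G := by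
  constructor
  · intro h
    exact { isCohenMacaulayLocalRing_localization := fun p _ =>
      (cm_quot_iff 𝓕 φ hφ hker p).2 (h.isCohenMacaulayLocalRing_localization _) }
  · intro h
    haveI := hA h
    refine { isCohenMacaulayLocalRing_localization := fun P _ => ?_ }
    by_cases hu : 𝓕.u ∈ P
    · obtain ⟨p, _, rfl⟩ := exists_quot_prime 𝓕 φ hφ hker P hu
      exact (cm_quot_iff 𝓕 φ hφ hker p).1 (h.isCohenMacaulayLocalRing_localization p)
    · obtain ⟨Q, _, rfl⟩ := exists_prime_away (S := A[T;T⁻¹]) 𝓕.u P hu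
      obtain ⟨e⟩ := nonempty_locEquiv (Submonoid.powers 𝓕.u) Q
      haveI := cm_laurent Q (LocCoh.IsCohenMacaulayRing.isCohenMacaulayLocalRing_localization _)
      exact GrothLib.HB26.isCohenMacaulayLocalRing_of_ringEquiv e.symm

end Rees

end GrothLib.ReesGr1
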