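import Mathlib
import Groth.Agent.Lib.ReesGr1.Laurent
import Groth.Agent.Lib.Gor.Localization

/-!
# Descent from the associated graded ring to the base
-/

set_option linter.style.haveILetI false

open IsLocalRing LaurentPolynomial

namespace GrothLib.ReesGr1

universe u

variable {A : Type u} [CommRing A] (𝓕 : FiltBl.IdealFiltration A)

theorem coeff_map_mem {q : Ideal A} {f : A[T;T⁻¹]} (hf : f ∈ q.map (algebraMap A A[T;T⁻¹])) (n : ℤ) :
    f.coeff n ∈ q := by
  have key : ∀ c : A[T;T⁻¹], ∀ g : A, g ∈ q → (c * C g).coeff n ∈ q := fun c g hg ↦ by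
    rw [← single_eq_C, AddMonoidAlgebra.coeff_mul_single_zero]
    exact Ideal.mul_mem_left _ _ hg
  induction hf using Submodule.span_induction generalizing n with
  | mem x hx =>
    obtain ⟨a, ha, rfl⟩ := hx
    rw [← C_eq_algebraMap, C_apply]
    split_ifs
    · exact ha
    · exact zero_mem _
  | zero => simp
  | add x y _ _ hx hy =>
    rw [AddMonoidAlgebra.coeff_add, Finsupp.add_apply]
    exact add_mem (hx n (fun c g hg ↦ key c g hg)) (hy n (fun c g hg ↦ key c g hg))
  | smul c x _ hx =>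
    induction c using LaurentPolynomial.induction_on' with
    | add p r hp hr =>
      rw [smul_eq_mul, add_mul, AddMonoidAlgebra.coeff_add, Finsupp.add_apply]
      exact add_mem hp hr
    | C_mul_T k a =>
      rw [smul_eq_mul, mul_comm, ← single_eq_C_mul_T, AddMonoidAlgebra.coeff_mul_single_apply]
      refine Ideal.mul_mem_right _ _ (hx _ ?_)
      intro c g hg
      rw [← single_eq_C, AddMonoidAlgebra.coeff_mul_single_zero]
      exact Ideal.mul_mem_left _ _ hg

theorem filtration_one_ne_top [IsLocalRing A] (hsep : ⨅ n, 𝓕.F n = ⊥) : 𝓕.F 1 ≠ ⊤ := by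
  intro h
  have hall : ∀ n, 𝓕.F n = ⊤ := by
    intro n
    induction n with
    | zero => exact 𝓕.zero_eq
    | succ n ih =>
      refine top_le_iff.1 ?_
      have := 𝓕.mul_le n 1
      rwa [ih, h, Ideal.top_mul] at this
  simp [hall] at hsep

/-- Over a prime of the base, a prime of `R'` lying below a prime containing `u`. -/
theorem exists_below [IsNoetherianRing A] [IsLocalRing A] (hsep : ⨅ n, 𝓕.F n = ⊥) (q : Ideal A) [q.IsPrime] :
    ∃ (Q : Ideal A[T;T⁻¹]) (_ : Q.IsPrime) (M : Ideal 𝓕.extRees) (_ : M.IsPrime),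
      Q.comap (algebraMap A A[T;T⁻¹]) = q ∧ 𝓕.u ∈ M ∧ Q.comap (algebraMap 𝓕.extRees A[T;T⁻¹]) ≤ M := by
  obtain ⟨Q, hQ, hq, hQe⟩ := exists_ext_prime q
  have hne : Q.comap (algebraMap 𝓕.extRees A[T;T⁻¹]) ⊔ Ideal.span {𝓕.u} ≠ ⊤ := by
    intro htop
    obtain ⟨p, hp, r, hr, hpr⟩ := Submodule.mem_sup.1 ((Ideal.eq_top_iff_one _).1 htop)
    obtain ⟨c, rfl⟩ := Ideal.mem_span_singleton'.1 hr
    have h0 := congrArg (fun x : 𝓕.extRees ↦ (x : A[T;T⁻¹]).coeff 0) hpr
    simp only [Subalgebra.coe_add, Subalgebra.coe_mul, Subalgebra.coe_one, AddMonoidAlgebra.coeff_add,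
      Finsupp.add_apply] at h0
    have h1 : (p : A[T;T⁻¹]).coeff 0 ∈ maximalIdeal A :=
      le_maximalIdeal (Ideal.IsPrime.ne_top inferInstance) (coeff_map_mem (hQe ▸ hp) 0)
    have h2 : ((c : A[T;T⁻¹]) * (𝓕.u : A[T;T⁻¹])).coeff 0 ∈ maximalIdeal A := by
      show ((c : A[T;T⁻¹]) * T (-1)).coeff 0 ∈ _
      rw [T, AddMonoidAlgebra.coeff_mul_single_apply, mul_one]
      refine le_maximalIdeal (filtration_one_ne_top 𝓕 hsep) ?_
      have := c.2 1
      simpa using this
    have h3 := add_mem h1 h2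
    rw [h0] at h3
    rw [← T_zero, T_apply, if_pos rfl] at h3
    exact (maximalIdeal.isMaximal A).ne_top ((Ideal.eq_top_iff_one _).2 h3)
  obtain ⟨M, hM, hle⟩ := Ideal.exists_le_maximal _ hne
  exact ⟨Q, hQ, M, hM.isPrime, hq, hle (Submodule.mem_sup_right (Ideal.mem_span_singleton_self _)),
    le_sup_left.trans hle⟩

/-- Cohen–Macaulayness passes to smaller primes. -/
theorem cm_of_le {R : Type u} [CommRing R] {P M : Ideal R} [P.IsPrime] [M.IsPrime] (hle : P ≤ M)
    (h : LocCoh.IsCohenMacaulayLocalRing (Localization.AtPrime M)) :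
    LocCoh.IsCohenMacaulayLocalRing (Localization.AtPrime P) := by
  have hd : Disjoint (M.primeCompl : Set R) (P : Set R) :=
    Set.disjoint_left.mpr fun x hx hxP ↦ hx (hle hxP)
  haveI := IsLocalization.isPrime_of_isPrime_disjoint M.primeCompl (Localization.AtPrime M) P inferInstance hd
  have hc : (P.map (algebraMap R (Localization.AtPrime M))).comap (algebraMap R (Localization.AtPrime M)) = P :=
    IsLocalization.under_map_of_isPrime_disjoint M.primeCompl _ inferInstance hd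
  obtain ⟨e⟩ := nonempty_locEquiv M.primeCompl (P.map (algebraMap R (Localization.AtPrime M)))
  haveI := Props8.isCohenMacaulayLocalRing_localization (Localization.AtPrime M)
    (P.map (algebraMap R (Localization.AtPrime M)))
  have := GrothLib.HB26.isCohenMacaulayLocalRing_of_ringEquiv e.symm
  exact of_eq _ _ hc this
where
  of_eq (I J : Ideal R) [I.IsPrime] [J.IsPrime] (h : I = J)
      (h' : LocCoh.IsCohenMacaulayLocalRing (Localization.AtPrime I)) :
      LocCoh.IsCohenMacaulayLocalRing (Localization.AtPrime J) := by subst h; exact h'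

/-- The Gorenstein property passes to smaller primes. -/
theorem gorenstein_of_le {R : Type u} [CommRing R] {P M : Ideal R} [P.IsPrime] [M.IsPrime] (hle : P ≤ M)
    (h : LocCoh.IsGorensteinLocalRing (Localization.AtPrime M)) :
    LocCoh.IsGorensteinLocalRing (Localization.AtPrime P) := by
  have hd : Disjoint (M.primeCompl : Set R) (P : Set R) :=
    Set.disjoint_left.mpr fun x hx hxP ↦ hx (hle hxP)
  haveI := IsLocalization.isPrime_of_isPrime_disjoint M.primeCompl (Localization.AtPrime M) P inferInstance hd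
  have hc : (P.map (algebraMap R (Localization.AtPrime M))).comap (algebraMap R (Localization.AtPrime M)) = P :=
    IsLocalization.under_map_of_isPrime_disjoint M.primeCompl _ inferInstance hd
  obtain ⟨e⟩ := nonempty_locEquiv M.primeCompl (P.map (algebraMap R (Localization.AtPrime M)))
  obtain ⟨n, hn⟩ := h.exists_hasInjectiveDimensionLT
  have := (GrothLib.GorFlat.gorenstein_congr e).2
    (GrothLib.Gor.isGorensteinLocalRing_localization (P.map (algebraMap R (Localization.AtPrime M))) hn)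
  exact of_eq _ _ hc this
where
  of_eq (I J : Ideal R) [I.IsPrime] [J.IsPrime] (h : I = J)
      (h' : LocCoh.IsGorensteinLocalRing (Localization.AtPrime I)) :
      LocCoh.IsGorensteinLocalRing (Localization.AtPrime J) := by subst h; exact h'

variable [IsNoetherianRing A] [IsNoetherianRing 𝓕.extRees] [IsLocalRing A]

theorem cm_base {G : Type u} [CommRing G] (φ : 𝓕.extRees →+* G)
    (hφ : Function.Surjective φ) (hker : RingHom.ker φ = Ideal.span {𝓕.u}) (hsep : ⨅ n, 𝓕.F n = ⊥)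
    (h : LocCoh.IsCohenMacaulayRing G) : LocCoh.IsCohenMacaulayRing A := by
  refine { isCohenMacaulayLocalRing_localization := fun q _ => ?_ }
  obtain ⟨Q, _, M, _, hq, hu, hle⟩ := exists_below 𝓕 hsep q
  obtain ⟨p, _, rfl⟩ := exists_quot_prime 𝓕 φ hφ hker M hu
  have hM := (cm_quot_iff 𝓕 φ hφ hker p).1 (h.isCohenMacaulayLocalRing_localization p)
  obtain ⟨e⟩ := nonempty_locEquiv (Submonoid.powers 𝓕.u) Q
  haveI := cm_of_le hle hM
  exact cm_descend q Q hq (GrothLib.HB26.isCohenMacaulayLocalRing_of_ringEquiv e)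

theorem gorenstein_base {G : Type u} [CommRing G] (φ : 𝓕.extRees →+* G)
    (hφ : Function.Surjective φ) (hker : RingHom.ker φ = Ideal.span {𝓕.u}) (hsep : ⨅ n, 𝓕.F n = ⊥)
    (h : LocCoh.IsGorensteinRing G) : LocCoh.IsGorensteinRing A := by
  refine { isGorensteinLocalRing_localization := fun q _ => ?_ }
  obtain ⟨Q, _, M, _, hq, hu, hle⟩ := exists_below 𝓕 hsep q
  obtain ⟨p, _, rfl⟩ := exists_quot_prime 𝓕 φ hφ hker M hu
  have hM := (gorenstein_quot_iff 𝓕 φ hφ hker p).1 (h.isGorensteinLocalRing_localization p)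
  obtain ⟨e⟩ := nonempty_locEquiv (Submonoid.powers 𝓕.u) Q
  have hQ := (GrothLib.GorFlat.gorenstein_congr e).1 (gorenstein_of_le hle hM)
  subst hq
  exact ((GrothLib.GorFlat.gorenstein_atPrime_iff Q).1 hQ).1

theorem isGorensteinRing_iff {G : Type u} [CommRing G] [IsNoetherianRing G] (φ : 𝓕.extRees →+* G)
    (hφ : Function.Surjective φ) (hker : RingHom.ker φ = Ideal.span {𝓕.u}) (hsep : ⨅ n, 𝓕.F n = ⊥) :
    LocCoh.IsGorensteinRing 𝓕.extRees ↔ LocCoh.IsGorensteinRing G := by
  constructor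
  · intro h
    exact { isGorensteinLocalRing_localization := fun p _ =>
      (gorenstein_quot_iff 𝓕 φ hφ hker p).2 (h.isGorensteinLocalRing_localization _) }
  · intro h
    have hA := gorenstein_base 𝓕 φ hφ hker hsep h
    refine { isGorensteinLocalRing_localization := fun P _ => ?_ }
    by_cases hu : 𝓕.u ∈ P
    · obtain ⟨p, _, rfl⟩ := exists_quot_prime 𝓕 φ hφ hker P hu
      exact (gorenstein_quot_iff 𝓕 φ hφ hker p).1 (h.isGorensteinLocalRing_localization p)
    · obtain ⟨Q, _, rfl⟩ := exists_prime_away (S := A[T;T⁻¹]) 𝓕.u P hu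
      obtain ⟨e⟩ := nonempty_locEquiv (Submonoid.powers 𝓕.u) Q
      exact (GrothLib.GorFlat.gorenstein_congr e).2 (gorenstein_laurent hA Q)

omit [IsLocalRing A] in
theorem hasSk_two_iff {G : Type u} [CommRing G] [IsNoetherianRing G] (φ : 𝓕.extRees →+* G)
    (hφ : Function.Surjective φ) (hker : RingHom.ker φ = Ideal.span {𝓕.u}) :
    LocCoh.HasSk 2 𝓕.extRees 𝓕.extRees ↔ (LocCoh.HasSk 1 G G ∧ LocCoh.HasSk 2 A A) := by
  constructor
  · intro h
    refine ⟨?_, ?_⟩
    · rw [GrothLib.SyntLoc.hasSk_iff_skBound] at h ⊢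
      exact fun p _ ↦ (skBound_quot_iff 𝓕 φ hφ hker p).2 (h _)
    · haveI := faithfullyFlat_laurent (A := A)
      exact GrothLib.FFDescent.hasSk_descends
        (GrothLib.SyntLoc.hasSk_localization h (Submonoid.powers 𝓕.u) A[T;T⁻¹])
  · rintro ⟨hG, hA⟩
    rw [GrothLib.SyntLoc.hasSk_iff_skBound] at hG ⊢
    intro P _
    by_cases hu : 𝓕.u ∈ P
    · obtain ⟨p, _, rfl⟩ := exists_quot_prime 𝓕 φ hφ hker P hu
      exact (skBound_quot_iff 𝓕 φ hφ hker p).1 (hG p)
    · obtain ⟨Q, _, rfl⟩ := exists_prime_away (S := A[T;T⁻¹]) 𝓕.u P hu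
      obtain ⟨e⟩ := nonempty_locEquiv (Submonoid.powers 𝓕.u) Q
      haveI : IsNoetherianRing (Localization.AtPrime Q) := GrothLib.Depth.isNoetherian_atPrime _
      exact GrothLib.SyntLoc.skBound_congr e.symm (skBound_laurent hA Q)

omit [IsLocalRing A] in
theorem cm_off_iff [IsLocalRing A] {G : Type u} [CommRing G] (φ : 𝓕.extRees →+* G)
    (hφ : Function.Surjective φ) (hker : RingHom.ker φ = Ideal.span {𝓕.u}) (Rp : Ideal 𝓕.extRees)
    (hRp : Rp = Ideal.span {x : 𝓕.extRees | ∃ n : ℕ, 0 < n ∧ ∃ a ∈ 𝓕.F n,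
      (x : LaurentPolynomial A) = LaurentPolynomial.C a * LaurentPolynomial.T (n : ℤ)}) :
    (∀ (P : Ideal 𝓕.extRees) [P.IsPrime], ¬ Rp ≤ P →
        LocCoh.IsCohenMacaulayLocalRing (Localization.AtPrime P)) ↔
      ((∀ (p : Ideal G) [p.IsPrime], ¬ Ideal.map φ Rp ≤ p →
          LocCoh.IsCohenMacaulayLocalRing (Localization.AtPrime p)) ∧
        (∀ (q : Ideal A) [q.IsPrime], ¬ 𝓕.F 1 ≤ q →
            LocCoh.IsCohenMacaulayLocalRing (Localization.AtPrime q))) := by
  constructor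
  · intro h
    refine ⟨fun p _ hp ↦ (cm_quot_iff 𝓕 φ hφ hker p).2 (h _ fun hle ↦ hp (Ideal.map_le_iff_le_comap.2 hle)),
      fun q _ hq ↦ ?_⟩
    obtain ⟨Q, _, hQ, -⟩ := exists_ext_prime q
    obtain ⟨e⟩ := nonempty_locEquiv (Submonoid.powers 𝓕.u) Q
    haveI := h (Q.comap (algebraMap 𝓕.extRees A[T;T⁻¹])) fun hle ↦ hq fun a ha ↦ by
      have hmem : mon 𝓕 a 1 (by simpa using ha) ∈ Rp := by
        rw [hRp]
        exact Ideal.subset_span ⟨1, one_pos, a, ha, rfl⟩
      have h2 : C a * T (1 : ℤ) * T (-1) ∈ Q := Q.mul_mem_right _ (hle hmem)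
      rw [mul_T_assoc, add_neg_cancel, T_zero, mul_one, C_eq_algebraMap] at h2
      rw [← hQ]
      exact h2
    exact cm_descend q Q hQ (GrothLib.HB26.isCohenMacaulayLocalRing_of_ringEquiv e)
  · rintro ⟨hG, hA⟩ P _ hP
    by_cases hu : 𝓕.u ∈ P
    · obtain ⟨p, _, rfl⟩ := exists_quot_prime 𝓕 φ hφ hker P hu
      exact (cm_quot_iff 𝓕 φ hφ hker p).1 (hG p fun hle ↦ hP (Ideal.map_le_iff_le_comap.1 hle))
    · obtain ⟨Q, _, rfl⟩ := exists_prime_away (S := A[T;T⁻¹]) 𝓕.u P hu
      obtain ⟨e⟩ := nonempty_locEquiv (Submonoid.powers 𝓕.u) Q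
      haveI : (Q.comap (algebraMap A A[T;T⁻¹])).IsPrime := inferInstance
      haveI := cm_laurent Q (hA (Q.comap (algebraMap A A[T;T⁻¹])) fun hle ↦ hP (by
        rw [hRp, Ideal.span_le]
        rintro x ⟨n, hn, a, ha, hx⟩
        show (x : A[T;T⁻¹]) ∈ Q
        rw [hx, C_eq_algebraMap]
        exact Q.mul_mem_right _ (hle (𝓕.antitone hn ha))))
      exact GrothLib.HB26.isCohenMacaulayLocalRing_of_ringEquiv e.symm

end GrothLib.ReesGr1
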