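import Mathlib
import Groth.Agent.Lib.ReesGr1.Main

/-!
# Factoriality of the extended Rees algebra
-/

open LaurentPolynomial

namespace GrothLib.ReesGr1

universe u

/-- Nagata's criterion. -/
theorem ufd_of_away {R S : Type u} [CommRing R] [IsDomain R] [IsNoetherianRing R] [CommRing S]
    [IsDomain S] [Algebra R S] {x : R} [IsLocalization.Away x S] (hx : Prime x)
    [UniqueFactorizationMonoid S] : UniqueFactorizationMonoid R := by
  rw [UniqueFactorizationMonoid.iff_exists_prime_mem_of_isPrime]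
  intro P hP0 hP
  by_cases hxP : x ∈ P
  · exact ⟨x, hxP, hx⟩
  have hd : Disjoint ((Submonoid.powers x : Submonoid R) : Set R) (P : Set R) :=
    Set.disjoint_left.mpr fun y ⟨n, hn⟩ hy ↦
      hxP (hP.mem_of_pow_mem n (by rw [show x ^ n = y from hn]; exact hy))
  have hQ := IsLocalization.isPrime_of_isPrime_disjoint (Submonoid.powers x) S P hP hd
  have hc : (P.map (algebraMap R S)).comap (algebraMap R S) = P :=
    IsLocalization.under_map_of_isPrime_disjoint (Submonoid.powers x) S hP hd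
  have hinj : Function.Injective (algebraMap R S) :=
    IsLocalization.injective S (powers_le_nonZeroDivisors_of_noZeroDivisors hx.ne_zero)
  have hQ0 : P.map (algebraMap R S) ≠ ⊥ := fun h ↦ hP0 (by
    rw [← hc, h, ← RingHom.ker_eq_comap_bot, (RingHom.injective_iff_ker_eq_bot _).mp hinj])
  obtain ⟨π, hπQ, hπ⟩ := UniqueFactorizationMonoid.iff_exists_prime_mem_of_isPrime.1 ‹_› _ hQ0 hQ
  obtain ⟨n, y, hy⟩ : ∃ n y, π * algebraMap R S x ^ n = algebraMap R S y :=
    IsLocalization.Away.surj x π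
  have hy0 : y ≠ 0 := fun h ↦ by
    rw [h, map_zero, mul_eq_zero] at hy
    rcases hy with h' | h'
    · exact hπ.ne_zero h'
    · exact ((IsLocalization.Away.algebraMap_isUnit x).pow n).ne_zero h'
  obtain ⟨m, r, hxr, rfl⟩ := WfDvdMonoid.max_power_factor hy0 hx.irreducible
  have hu : ∀ k, IsUnit (algebraMap R S x ^ k) := fun k ↦ (IsLocalization.Away.algebraMap_isUnit x).pow k
  have hassoc : Associated (algebraMap R S r) π := by
    rw [map_mul, map_pow] at hy
    obtain ⟨v, hv⟩ := hu n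
    obtain ⟨w, hw⟩ := hu m
    refine Associated.trans ?_ (associated_mul_unit_left π (algebraMap R S x ^ n) (hu n))
    rw [hy]
    exact (associated_unit_mul_left _ _ (hu m)).symm
  have hr : Prime (algebraMap R S r) := hassoc.symm.prime hπ
  have hrP : r ∈ P := by
    rw [← hc, Ideal.mem_comap]
    obtain ⟨v, hv⟩ := hassoc.symm
    rw [← hv]
    exact Ideal.mul_mem_right _ _ hπQ
  have key : ∀ z, algebraMap R S r ∣ algebraMap R S z → r ∣ z := by
    rintro z ⟨s, hs⟩
    obtain ⟨k, c, hc'⟩ : ∃ k c, s * algebraMap R S x ^ k = algebraMap R S c := IsLocalization.Away.surj x s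
    have h2 : z * x ^ k = r * c := hinj (by rw [map_mul, map_mul, map_pow, hs, ← hc', mul_assoc])
    obtain ⟨d, rfl⟩ := Prime.pow_dvd_of_dvd_mul_left hx k hxr (h2 ▸ dvd_mul_left (x ^ k) z)
    exact ⟨d, mul_right_cancel₀ (pow_ne_zero k hx.ne_zero) (by rw [h2]; ring)⟩
  refine ⟨r, hrP, (fun h ↦ hr.ne_zero (by rw [h, map_zero])), fun h ↦ hr.not_isUnit (h.map _), fun a b h ↦ ?_⟩
  exact (hr.dvd_or_dvd (by rw [← map_mul]; exact map_dvd _ h)).imp (key a) (key b)

variable {A : Type u} [CommRing A] [IsDomain A]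

theorem laurent_unit_eq {f g : A[T;T⁻¹]} (h : f * g = 1) : ∃ (c : A) (j : ℤ), IsUnit c ∧ f = C c * T j := by
  obtain ⟨n, p, hp⟩ := LaurentPolynomial.exists_T_pow f
  obtain ⟨m, q, hq⟩ := LaurentPolynomial.exists_T_pow g
  have hpq : p * q = Polynomial.X ^ (n + m) := Polynomial.toLaurent_injective (by
    rw [map_mul, hp, hq, Polynomial.toLaurent_X_pow,
      show f * T (n : ℤ) * (g * T (m : ℤ)) = f * g * (T (n : ℤ) * T (m : ℤ)) by ring, h, one_mul, ← T_add]
    push_cast
    rfl)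
  obtain ⟨j, -, hj⟩ := (dvd_prime_pow Polynomial.prime_X (n + m)).1 ⟨q, hpq.symm⟩
  obtain ⟨v, hv⟩ := hj.symm
  obtain ⟨c, hc, hcv⟩ := Polynomial.isUnit_iff.1 v.isUnit
  refine ⟨c, (j : ℤ) - n, hc, ?_⟩
  have e : f = f * T (n : ℤ) * T (-(n : ℤ)) := by rw [mul_T_assoc, add_neg_cancel, T_zero, mul_one]
  rw [e, ← hp, ← hv, ← hcv, map_mul, Polynomial.toLaurent_X_pow, Polynomial.toLaurent_C, mul_comm (T (j : ℤ)),
    mul_assoc, ← T_add, sub_eq_add_neg]

theorem ufd_laurent [UniqueFactorizationMonoid A] [IsNoetherianRing A] : UniqueFactorizationMonoid A[T;T⁻¹] :=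
  UniqueFactorizationMonoid.of_isLocalization (Submonoid.powers (Polynomial.X : Polynomial A)) _

theorem ufd_of_laurent [IsNoetherianRing A] [UniqueFactorizationMonoid A[T;T⁻¹]] :
    UniqueFactorizationMonoid A := by
  rw [UniqueFactorizationMonoid.iff_exists_prime_mem_of_isPrime]
  intro q₀ hq₀ hq₀'
  obtain ⟨a, haq, ha0⟩ := Submodule.exists_mem_ne_zero_of_ne_bot hq₀
  obtain ⟨q, hqmin, hqle⟩ := Ideal.exists_minimalPrimes_le ((Ideal.span_singleton_le_iff_mem _).2 haq)
  haveI := hqmin.1.1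
  obtain ⟨Q, hQ, hQc, hQe⟩ := exists_ext_prime q
  have haQ : algebraMap A A[T;T⁻¹] a ∈ Q := by
    rw [← Ideal.mem_comap, hQc]
    exact hqmin.1.2 (Ideal.mem_span_singleton_self a)
  have hC : Function.Injective (algebraMap A A[T;T⁻¹]) := fun x y h ↦ by
    have := congrArg (fun f : A[T;T⁻¹] ↦ f.coeff 0) h
    simpa [← C_eq_algebraMap] using this
  obtain ⟨s, hs, hsprod⟩ := UniqueFactorizationMonoid.exists_prime_factors (algebraMap A A[T;T⁻¹] a)
    ((map_ne_zero_iff _ hC).2 ha0)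
  obtain ⟨w, hw⟩ := hsprod
  have hmem : s.prod ∈ Q := by
    rcases hQ.mem_or_mem (hw ▸ haQ : s.prod * (w : A[T;T⁻¹]) ∈ Q) with h | h
    · exact h
    · exact absurd (Ideal.eq_top_of_isUnit_mem _ h w.isUnit) hQ.ne_top
  obtain ⟨π, hπs, hπQ⟩ := (hQ.multiset_prod_mem_iff_exists_mem s).1 hmem
  have hπ := hs π hπs
  have haπ : algebraMap A A[T;T⁻¹] a ∈ Ideal.span {π} :=
    Ideal.mem_span_singleton.2 ((Multiset.dvd_prod hπs).trans ⟨w, hw.symm⟩)
  haveI hp : (Ideal.span {π}).IsPrime := (Ideal.span_singleton_prime hπ.ne_zero).2 hπ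
  have hle : Ideal.span {π} ≤ Q := (Ideal.span_singleton_le_iff_mem _).2 hπQ
  have hqeq : (Ideal.span {π}).comap (algebraMap A A[T;T⁻¹]) = q := by
    have h1 : (Ideal.span {π}).comap (algebraMap A A[T;T⁻¹]) ≤ q := hQc ▸ Ideal.comap_mono hle
    exact le_antisymm h1 (hqmin.2 ⟨inferInstance, (Ideal.span_singleton_le_iff_mem _).2 haπ⟩ h1)
  have hQπ : Q = Ideal.span {π} :=
    le_antisymm (hQe ▸ Ideal.map_le_iff_le_comap.2 hqeq.ge) hle
  let ev : A[T;T⁻¹] →+* A := (LaurentPolynomial.eval₂ (RingHom.id A) (1 : Aˣ))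
  have hev : ev.comp (algebraMap A A[T;T⁻¹]) = RingHom.id A := RingHom.ext fun c ↦ by
    rw [RingHom.comp_apply, ← C_eq_algebraMap]
    exact LaurentPolynomial.eval₂_C _ _ _
  have hqt : q = Ideal.span {ev π} := by
    rw [← Set.image_singleton, ← Ideal.map_span, ← hQπ, hQe, Ideal.map_map, hev, Ideal.map_id]
  refine ⟨ev π, hqle (hqt ▸ Ideal.mem_span_singleton_self _), (Ideal.span_singleton_prime ?_).1 (hqt ▸ hqmin.1.1)⟩
  intro h0
  refine ha0 (Ideal.mem_bot.1 ?_)
  have := hqmin.1.2 (Ideal.mem_span_singleton_self a)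
  rwa [hqt, h0, Ideal.span_singleton_zero] at this

variable (𝓕 : FiltBl.IdealFiltration A) [IsLocalRing A] [IsNoetherianRing A] [IsNoetherianRing 𝓕.extRees]

omit [IsNoetherianRing A] [IsNoetherianRing 𝓕.extRees] in
theorem irreducible_u (hsep : ⨅ n, 𝓕.F n = ⊥) : Irreducible 𝓕.u := by
  have hF := filtration_one_ne_top 𝓕 hsep
  have main : ∀ (a : 𝓕.extRees) (c : A) (j : ℤ), IsUnit c → (a : A[T;T⁻¹]) = C c * T j → j ≤ 0 ∧
      (j = 0 → IsUnit a) := by
    intro a c j hc ha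
    constructor
    · by_contra hj
      push Not at hj
      refine hF (top_le_iff.1 ?_)
      have h1 := a.2 j
      rw [ha, ← single_eq_C_mul_T, AddMonoidAlgebra.coeff_single, Finsupp.single_eq_same] at h1
      exact le_trans (Ideal.eq_top_of_isUnit_mem _ h1 hc).ge (𝓕.antitone (by omega))
    · rintro rfl
      have : a = algebraMap A 𝓕.extRees c := Subtype.ext (by rw [ha, T_zero, mul_one]; exact (algebraMap_extRees 𝓕 c).symm)
      rw [this]
      exact hc.map _
  refine ⟨fun hu ↦ ?_, fun a b hab ↦ ?_⟩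
  · obtain ⟨v, hv⟩ := hu
    have h : T (-1) * ((v⁻¹ : (𝓕.extRees)ˣ) : 𝓕.extRees).1 = (1 : A[T;T⁻¹]) := by
      have := congrArg Subtype.val v.mul_inv
      rw [hv] at this
      exact this
    obtain ⟨c, j, hc, hcj⟩ := laurent_unit_eq (f := ((v⁻¹ : (𝓕.extRees)ˣ) : 𝓕.extRees).1) (by rw [mul_comm]; exact h)
    have hle := (main _ c j hc hcj).1
    rw [hcj, ← mul_assoc, mul_comm (T (-1)), mul_assoc, ← T_add] at h
    have h2 := congrArg (fun f : A[T;T⁻¹] ↦ f.coeff 0) h
    simp only [← single_eq_C_mul_T, AddMonoidAlgebra.coeff_single] at h2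
    rw [Finsupp.single_apply, if_neg (by omega), ← T_zero, T_apply, if_pos rfl] at h2
    exact zero_ne_one h2
  · have h : (a : A[T;T⁻¹]) * ((b : A[T;T⁻¹]) * T 1) = 1 := by
      have := congrArg Subtype.val hab
      rw [← mul_assoc, ← Subalgebra.coe_mul, ← hab]
      show T (-1) * T 1 = (1 : A[T;T⁻¹])
      rw [← T_add, neg_add_cancel, T_zero]
    obtain ⟨c, i, hc, hci⟩ := laurent_unit_eq h
    obtain ⟨d, j, hd, hdj⟩ := laurent_unit_eq (f := (b : A[T;T⁻¹])) (g := (a : A[T;T⁻¹]) * T 1)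
      (by rw [← h]; ring)
    have hsum : i + j = -1 := by
      have h2 : C (c * d) * T (i + j) = (T (-1) : A[T;T⁻¹]) := by
        have := congrArg Subtype.val hab
        rw [Subalgebra.coe_mul, hci, hdj] at this
        rw [map_mul, T_add, show C c * C d * (T i * T j) = C c * T i * (C d * T j) by ring]
        exact this.symm
      by_contra hne
      have h3 := congrArg (fun f : A[T;T⁻¹] ↦ f.coeff (i + j)) h2
      simp only [← single_eq_C_mul_T, AddMonoidAlgebra.coeff_single] at h3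
      rw [Finsupp.single_eq_same, T_apply, if_neg (Ne.symm hne)] at h3
      exact (hc.mul hd).ne_zero h3
    obtain ⟨hi, hi'⟩ := main a c i hc hci
    obtain ⟨hj, hj'⟩ := main b d j hd hdj
    rcases eq_or_ne i 0 with h0 | h0
    · exact Or.inl (hi' h0)
    · exact Or.inr (hj' (by omega))

theorem ufd_extRees_iff [IsDomain 𝓕.extRees] (hsep : ⨅ n, 𝓕.F n = ⊥) :
    UniqueFactorizationMonoid 𝓕.extRees ↔ (UniqueFactorizationMonoid A ∧ IsDomain 𝓕.Gr) := by
  have hne : 𝓕.u ≠ 0 := nonZeroDivisors.ne_zero (u_mem_nonZeroDivisors 𝓕)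
  constructor
  · intro h
    haveI : UniqueFactorizationMonoid A[T;T⁻¹] :=
      UniqueFactorizationMonoid.of_isLocalization (Submonoid.powers 𝓕.u) _
    refine ⟨ufd_of_laurent, ?_⟩
    have hp : Prime 𝓕.u := UniqueFactorizationMonoid.irreducible_iff_prime.1 (irreducible_u 𝓕 hsep)
    exact (Ideal.Quotient.isDomain_iff_prime _).2 ((Ideal.span_singleton_prime hne).2 hp)
  · rintro ⟨hA, hG⟩
    haveI := ufd_laurent (A := A)
    exact ufd_of_away (S := A[T;T⁻¹])
      ((Ideal.span_singleton_prime hne).1 ((Ideal.Quotient.isDomain_iff_prime _).1 hG))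

end GrothLib.ReesGr1
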