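import Mathlib
import Groth.Agent.Lib.ReesGr1.Main
import Groth.Agent.Lib.FibPd.SerreOne
import Groth.Agent.Lib.CMBasics.Basic
import Groth.Agent.Lib.SnFibres.Basic

/-!
# The condition `(S_2)` for the Rees algebra from the extended Rees algebra
-/

set_option linter.style.haveILetI false

open IsLocalRing LaurentPolynomial

namespace GrothLib.ReesGr1

universe u

section Local

variable {S : Type u} [CommRing S] [IsLocalRing S] [IsNoetherianRing S] {t : S}

/-- A criterion for depth at least two. -/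
theorem skBound_two_of (ht : t ∈ maximalIdeal S) (hreg : IsSMulRegular S t)
    (hz : ∀ z : S, (∀ y ∈ maximalIdeal S, y * z ∈ Ideal.span {t}) → z ∈ Ideal.span {t}) :
    GrothLib.SyntLoc.SkBound 2 S := by
  haveI := isLocalRing_quot_span ht
  rw [← skBound_iff_quot (k := 1) ht hreg]
  have hne : LocCoh.depth (S ⧸ Ideal.span {t}) (S ⧸ Ideal.span {t}) ≠ 0 := by
    intro h0
    rw [GrothLib.CMBasics.depth_eq_zero_iff, AssociatedPrimes.mem_iff, isAssociatedPrime_iff] at h0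
    obtain ⟨hp, x, hx⟩ := h0
    obtain ⟨z, rfl⟩ := Ideal.Quotient.mk_surjective x
    have hz' : z ∈ Ideal.span {t} := hz z fun y hy ↦ by
      have hy' : Ideal.Quotient.mk (Ideal.span {t}) y ∈ maximalIdeal (S ⧸ Ideal.span {t}) := by
        rw [← GrothLib.RegLoc.map_maximalIdeal_quotient (Ideal.span {t})]
        exact Ideal.mem_map_of_mem _ hy
      rw [hx, Submodule.mem_colon_singleton, Submodule.mem_bot, smul_eq_mul, ← map_mul,
        Ideal.Quotient.eq_zero_iff_mem] at hy'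
      exact hy'
    refine hp.one_notMem ?_
    rw [hx, Submodule.mem_colon_singleton, Submodule.mem_bot, smul_eq_mul, one_mul,
      Ideal.Quotient.eq_zero_iff_mem]
    exact hz'
  refine (min_le_left _ _).trans ?_
  have h1 : (1 : ℕ∞) ≤ LocCoh.depth (S ⧸ Ideal.span {t}) (S ⧸ Ideal.span {t}) :=
    Order.one_le_iff_pos.2 (pos_iff_ne_zero.2 hne)
  exact_mod_cast h1

/-- Modulo a regular element there is no socle in depth at least two. -/
theorem mem_span_of_skBound_two (h : GrothLib.SyntLoc.SkBound 2 S) (hdim : (2 : WithBot ℕ∞) ≤ ringKrullDim S)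
    (ht : t ∈ maximalIdeal S) (hreg : IsSMulRegular S t) {z : S}
    (hz : ∀ y ∈ maximalIdeal S, y * z ∈ Ideal.span {t}) : z ∈ Ideal.span {t} := by
  haveI := isLocalRing_quot_span ht
  by_contra hne
  have h0 : LocCoh.depth (S ⧸ Ideal.span {t}) (S ⧸ Ideal.span {t}) = 0 := by
    rw [GrothLib.CMBasics.depth_eq_zero_iff, AssociatedPrimes.mem_iff, isAssociatedPrime_iff]
    refine ⟨inferInstance, Ideal.Quotient.mk _ z, ?_⟩
    refine (maximalIdeal.isMaximal _).eq_of_le ?_ ?_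
    · intro htop
      have h1 := (Ideal.eq_top_iff_one _).1 htop
      rw [Submodule.mem_colon_singleton, Submodule.mem_bot, smul_eq_mul, one_mul,
        Ideal.Quotient.eq_zero_iff_mem] at h1
      exact hne h1
    · rw [← GrothLib.RegLoc.map_maximalIdeal_quotient (Ideal.span {t}), Ideal.map_le_iff_le_comap]
      intro y hy
      rw [Ideal.mem_comap, Submodule.mem_colon_singleton, Submodule.mem_bot, smul_eq_mul, ← map_mul,
        Ideal.Quotient.eq_zero_iff_mem]
      exact hz y hy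
  have h1 : (2 : WithBot ℕ∞) ≤ ((LocCoh.depth S S : ℕ∞) : WithBot ℕ∞) := (le_min le_rfl hdim).trans h
  rw [← depth_quot_add_one ht hreg, h0] at h1
  exact absurd h1 (by norm_num)

/-- Depth at least two at a prime containing a regular element, elementwise. -/
theorem skBound_two_atPrime {R : Type u} [CommRing R] [IsNoetherianRing R] (P : Ideal R) [P.IsPrime]
    {a : R} (haP : a ∈ P) (hreg : a ∈ nonZeroDivisors R)
    (h : ∀ f : R, (∀ y ∈ P, y * f ∈ Ideal.span {a}) → ∃ r ∈ P.primeCompl, r * f ∈ Ideal.span {a}) :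
    GrothLib.SyntLoc.SkBound 2 (Localization.AtPrime P) := by
  classical
  haveI : IsNoetherianRing (Localization.AtPrime P) := GrothLib.Depth.isNoetherian_atPrime _
  refine skBound_two_of (t := algebraMap R (Localization.AtPrime P) a)
    ((IsLocalization.AtPrime.to_map_mem_maximal_iff _ P _).2 haP)
    (fun x y hxy ↦ (mul_cancel_left_mem_nonZeroDivisors
      (IsLocalization.map_nonZeroDivisors_le P.primeCompl (Localization.AtPrime P) ⟨a, hreg, rfl⟩)).1 hxy)
    fun z hz ↦ ?_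
  obtain ⟨⟨f₀, s₀⟩, rfl⟩ := IsLocalization.mk'_surjective P.primeCompl z
  have hspan : ∀ x : R, algebraMap R (Localization.AtPrime P) x ∈
      Ideal.span {algebraMap R (Localization.AtPrime P) a} ↔ ∃ s ∈ P.primeCompl, s * x ∈ Ideal.span {a} := by
    intro x
    rw [← Set.image_singleton, ← Ideal.map_span,
      IsLocalization.algebraMap_mem_map_algebraMap_iff P.primeCompl]
  dsimp only at hz ⊢
  rw [IsLocalization.mk'_eq_mul_mk'_one]
  refine Ideal.mul_mem_right _ _ ?_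
  have hs : ∀ y ∈ P, ∃ s ∈ P.primeCompl, s * (y * f₀) ∈ Ideal.span {a} := by
    intro y hy
    rw [← hspan, map_mul]
    have h1 := hz _ ((IsLocalization.AtPrime.to_map_mem_maximal_iff _ P _).2 hy)
    have h2 := Ideal.mul_mem_right (algebraMap R (Localization.AtPrime P) (s₀ : R)) _ h1
    rwa [mul_assoc, IsLocalization.mk'_spec] at h2
  obtain ⟨G, hGP⟩ := IsNoetherian.noetherian P
  choose! σ hσ hσ' using hs
  have hGsub : ∀ y ∈ G, y ∈ P := fun y hy ↦ hGP ▸ Submodule.subset_span hy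
  let s : R := ∏ y ∈ G, σ y
  have hsP : s ∈ P.primeCompl := Submonoid.prod_mem _ fun y hy ↦ hσ y (hGsub y hy)
  have hPf : ∀ y ∈ P, y * (s * f₀) ∈ Ideal.span {a} := by
    intro y hy
    rw [← hGP] at hy
    induction hy using Submodule.span_induction with
    | mem x hx =>
      obtain ⟨r, hr⟩ : σ x ∣ s := Finset.dvd_prod_of_mem _ hx
      have := Ideal.mul_mem_left _ r (hσ' x (hGsub x hx))
      convert this using 1
      rw [hr]; ring
    | zero => rw [zero_mul]; exact zero_mem _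
    | add x y _ _ h1 h2 => rw [add_mul]; exact add_mem h1 h2
    | smul c x _ h1 => rw [smul_eq_mul, mul_assoc]; exact Ideal.mul_mem_left _ _ h1
  obtain ⟨r, hr, hr'⟩ := h _ hPf
  exact (hspan f₀).2 ⟨r * s, Submonoid.mul_mem _ hr hsP, by rw [mul_assoc]; exact hr'⟩

/-- The converse, in the shape used below. -/
theorem exists_mul_mem_of_hasSk_two {A : Type u} [CommRing A] [IsNoetherianRing A]
    (hA : LocCoh.HasSk 2 A A) (q : Ideal A) [q.IsPrime] (hq2 : 2 ≤ q.height) {a : A} (haq : a ∈ q)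
    (hreg : a ∈ nonZeroDivisors A) {c : A} (h : ∀ p ∈ q, p * c ∈ Ideal.span {a}) :
    ∃ r ∈ q.primeCompl, r * c ∈ Ideal.span {a} := by
  haveI : IsNoetherianRing (Localization.AtPrime q) := GrothLib.Depth.isNoetherian_atPrime _
  have hdim : (2 : WithBot ℕ∞) ≤ ringKrullDim (Localization.AtPrime q) := by
    rw [IsLocalization.AtPrime.ringKrullDim_eq_height q]
    exact WithBot.coe_le_coe.2 hq2
  have hmem : algebraMap A (Localization.AtPrime q) c ∈ Ideal.span {algebraMap A (Localization.AtPrime q) a} := by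
    refine mem_span_of_skBound_two ((GrothLib.SyntLoc.hasSk_iff_skBound A).1 hA q) hdim
      ((IsLocalization.AtPrime.to_map_mem_maximal_iff _ q _).2 haq)
      (fun x y hxy ↦ (mul_cancel_left_mem_nonZeroDivisors
        (IsLocalization.map_nonZeroDivisors_le q.primeCompl (Localization.AtPrime q) ⟨a, hreg, rfl⟩)).1 hxy)
      fun y hy ↦ ?_
    obtain ⟨⟨p, r⟩, rfl⟩ := IsLocalization.mk'_surjective q.primeCompl y
    have hp : p ∈ q := (IsLocalization.AtPrime.mk'_mem_maximal_iff _ q p r).1 hy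
    obtain ⟨d, hd⟩ := Ideal.mem_span_singleton'.1 (h p hp)
    dsimp only
    rw [IsLocalization.mk'_eq_mul_mk'_one, mul_right_comm, ← map_mul, ← hd, map_mul]
    exact Ideal.mul_mem_right _ _ (Ideal.mul_mem_left _ _ (Ideal.mem_span_singleton_self _))
  rw [← Set.image_singleton, ← Ideal.map_span,
    IsLocalization.algebraMap_mem_map_algebraMap_iff q.primeCompl] at hmem
  exact hmem

end Local

variable {A : Type u} [CommRing A] (𝓕 : FiltBl.IdealFiltration A)

theorem pow_mem_filtration {a : A} (ha : a ∈ 𝓕.F 1) : ∀ n, a ^ n ∈ 𝓕.F n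
  | 0 => by simp [𝓕.zero_eq]
  | n + 1 => by rw [pow_succ]; exact 𝓕.mul_le n 1 (Ideal.mul_mem_mul (pow_mem_filtration ha n) ha)

theorem ker_mk : RingHom.ker (Ideal.Quotient.mk (Ideal.span {𝓕.u})) = Ideal.span {𝓕.u} := Ideal.mk_ker

theorem monomial_mem {g : A} {n : ℕ} (hg : g ∈ 𝓕.F n) : Polynomial.monomial n g ∈ 𝓕.rees := fun k ↦ by
  rw [Polynomial.coeff_monomial]
  split_ifs with h
  · subst h; exact hg
  · exact zero_mem _

variable [IsNoetherianRing A]

theorem skBound_rees_off [IsNoetherianRing 𝓕.rees] (hA : LocCoh.HasSk 2 A A) (P : Ideal 𝓕.rees) [P.IsPrime]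
    {a : A} (ha1 : a ∈ 𝓕.F 1) (ha : algebraMap A 𝓕.rees a ∉ P) :
    GrothLib.SyntLoc.SkBound 2 (Localization.AtPrime P) := by
  let L := Localization.Away (Polynomial.C a)
  have hmap : ∀ x : 𝓕.rees, algebraMap 𝓕.rees L x = algebraMap (Polynomial A) L x := fun _ ↦ rfl
  haveI : IsLocalization.Away (algebraMap A 𝓕.rees a) L := by
    refine IsLocalization.Away.mk _ ?_ (fun z ↦ ?_) fun x y e ↦ ?_
    · rw [hmap]
      exact IsLocalization.Away.algebraMap_isUnit (Polynomial.C a)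
    · obtain ⟨n, f, hf⟩ := IsLocalization.Away.surj (Polynomial.C a) z
      refine ⟨f.natDegree + n, ⟨Polynomial.C (a ^ f.natDegree) * f, fun k ↦ ?_⟩, ?_⟩
      · rw [Polynomial.coeff_C_mul]
        rcases le_or_gt k f.natDegree with hk | hk
        · exact Ideal.mul_mem_right _ _ (𝓕.antitone hk (pow_mem_filtration 𝓕 ha1 _))
        · rw [Polynomial.coeff_eq_zero_of_natDegree_lt hk, mul_zero]
          exact zero_mem _
      · rw [hmap, hmap, map_mul, ← hf, Polynomial.C_pow, map_pow, pow_add]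
        show z * (algebraMap (Polynomial A) L (Polynomial.C a) ^ f.natDegree *
          algebraMap (Polynomial A) L (Polynomial.C a) ^ n) = _
        ring
    · rw [hmap, hmap] at e
      obtain ⟨k, hk⟩ := IsLocalization.Away.exists_of_eq (Polynomial.C a) e
      exact ⟨k, Subtype.ext hk⟩
  have hL : LocCoh.HasSk 2 L L :=
    GrothLib.SyntLoc.hasSk_localization
      (GrothLib.SnFibres.hasSk_congr (MvPolynomial.uniqueAlgEquiv A (Fin 1)).toRingEquiv (hasSk_mvPolynomial hA))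
      (Submonoid.powers (Polynomial.C a)) L
  haveI : IsNoetherianRing L := IsLocalization.isNoetherianRing (Submonoid.powers (Polynomial.C a)) L inferInstance
  obtain ⟨Q, _, rfl⟩ := exists_prime_away (S := L) (algebraMap A 𝓕.rees a) P ha
  obtain ⟨e⟩ := nonempty_locEquiv (Submonoid.powers (algebraMap A 𝓕.rees a)) Q
  haveI : IsNoetherianRing (Localization.AtPrime Q) := GrothLib.Depth.isNoetherian_atPrime _
  exact GrothLib.SyntLoc.skBound_congr e.symm ((GrothLib.SyntLoc.hasSk_iff_skBound _).1 hL Q)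

omit [IsNoetherianRing A] in
theorem exists_pow_mul_mem_range {g : A} {n : ℕ} (hg : g ∈ 𝓕.F (n + 1)) (x : 𝓕.extRees) :
    ∃ N, ι 𝓕 ⟨_, monomial_mem 𝓕 hg⟩ ^ N * x ∈ (ι 𝓕).range := by
  have htu : ι 𝓕 ⟨_, monomial_mem 𝓕 hg⟩ * 𝓕.u =
      ι 𝓕 ⟨_, monomial_mem 𝓕 (𝓕.antitone (Nat.le_succ n) hg)⟩ := by
    apply Subtype.ext
    rw [Subalgebra.coe_mul, ι_coe, ι_coe]
    show Polynomial.toLaurent (Polynomial.monomial (n + 1) g) * T (-1) = Polynomial.toLaurent (Polynomial.monomial n g)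
    rw [Polynomial.toLaurent_C_mul_T, Polynomial.toLaurent_C_mul_T, mul_assoc, ← T_add]
    push_cast
    rw [add_neg_cancel_right]
  obtain ⟨q, rfl⟩ := Φ_surjective 𝓕 x
  induction q using Polynomial.induction_on' with
  | add p r hp hr =>
    obtain ⟨N, hN⟩ := hp
    obtain ⟨M, hM⟩ := hr
    refine ⟨N + M, ?_⟩
    rw [map_add, mul_add, pow_add]
    refine add_mem ?_ ?_
    · rw [mul_comm (_ ^ N), mul_assoc]
      exact mul_mem (pow_mem (RingHom.mem_range_self (ι 𝓕) _) M) hN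
    · rw [mul_assoc]
      exact mul_mem (pow_mem (RingHom.mem_range_self (ι 𝓕) _) N) hM
  | monomial k r =>
    refine ⟨k, ?_⟩
    rw [Φ, Polynomial.coe_eval₂RingHom, Polynomial.eval₂_monomial, mul_left_comm, ← mul_pow, htu]
    exact mul_mem (RingHom.mem_range_self (ι 𝓕) _) (pow_mem (RingHom.mem_range_self (ι 𝓕) _) k)

theorem skBound_rees_pos [IsNoetherianRing 𝓕.extRees] [IsNoetherianRing 𝓕.rees]
    (h : LocCoh.HasSk 2 𝓕.extRees 𝓕.extRees) (P : Ideal 𝓕.rees) [P.IsPrime]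
    {g : A} {n : ℕ} (hg : g ∈ 𝓕.F (n + 1)) (hgP : (⟨_, monomial_mem 𝓕 hg⟩ : 𝓕.rees) ∉ P) :
    GrothLib.SyntLoc.SkBound 2 (Localization.AtPrime P) := by
  let t : 𝓕.rees := ⟨_, monomial_mem 𝓕 hg⟩
  let L := Localization.Away (ι 𝓕 t)
  letI : Algebra 𝓕.rees L := ((algebraMap 𝓕.extRees L).comp (ι 𝓕)).toAlgebra
  haveI : IsLocalization.Away t L := by
    refine IsLocalization.Away.mk _ ?_ (fun z ↦ ?_) fun x y e ↦ ?_
    · exact IsLocalization.Away.algebraMap_isUnit (ι 𝓕 t)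
    · obtain ⟨m, f, hf⟩ := IsLocalization.Away.surj (ι 𝓕 t) z
      obtain ⟨N, r, hr⟩ := exists_pow_mul_mem_range 𝓕 hg f
      refine ⟨m + N, r, ?_⟩
      show z * algebraMap 𝓕.extRees L (ι 𝓕 t) ^ (m + N) = algebraMap 𝓕.extRees L (ι 𝓕 r)
      rw [hr, map_mul, map_pow, ← hf, pow_add]
      ring
    · obtain ⟨k, hk⟩ := IsLocalization.Away.exists_of_eq (S := L) (ι 𝓕 t) e
      have hk' : ι 𝓕 (t ^ k * x) = ι 𝓕 (t ^ k * y) := by rw [map_mul, map_mul, map_pow]; exact hk
      exact ⟨k, Subtype.ext (Polynomial.toLaurent_injective (congrArg Subtype.val hk'))⟩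
  have hL : LocCoh.HasSk 2 L L :=
    GrothLib.SyntLoc.hasSk_localization h (Submonoid.powers (ι 𝓕 t)) L
  haveI : IsNoetherianRing L := IsLocalization.isNoetherianRing (Submonoid.powers (ι 𝓕 t)) L inferInstance
  obtain ⟨Q, _, rfl⟩ := exists_prime_away (S := L) t P hgP
  obtain ⟨e⟩ := nonempty_locEquiv (Submonoid.powers t) Q
  haveI : IsNoetherianRing (Localization.AtPrime Q) := GrothLib.Depth.isNoetherian_atPrime _
  exact GrothLib.SyntLoc.skBound_congr e.symm ((GrothLib.SyntLoc.hasSk_iff_skBound _).1 hL Q)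

omit [IsNoetherianRing A] in
theorem mon_mem_of_forall {P : Ideal 𝓕.extRees} {q : Ideal A}
    (hu : 𝓕.u ∈ P) (hq : ∀ c ∈ q, algebraMap A 𝓕.extRees c ∈ P)
    (hpos : ∀ (m : ℕ), 0 < m → ∀ (c : A) (hc : c ∈ 𝓕.F m), mon 𝓕 c m (by simpa using hc) ∈ P)
    (f : 𝓕.extRees) (hf : ∀ n, (f : A[T;T⁻¹]).coeff n ∈ q) : f ∈ P := by
  classical
  have hsum : f = ∑ n ∈ (f : A[T;T⁻¹]).coeff.support, mon 𝓕 ((f : A[T;T⁻¹]).coeff n) n (f.2 n) := by
    apply Subtype.ext
    rw [AddSubmonoidClass.coe_finsetSum]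
    conv_lhs => rw [← AddMonoidAlgebra.sum_single (f : A[T;T⁻¹])]
    exact Finset.sum_congr rfl fun n _ ↦ single_eq_C_mul_T _ _
  rw [hsum]
  refine Ideal.sum_mem _ fun n _ ↦ ?_
  obtain ⟨m, hn | hn⟩ := Int.eq_nat_or_neg n
  · subst hn
    rcases Nat.eq_zero_or_pos m with rfl | hm
    · convert hq _ (hf (0 : ℤ)) using 1
      exact Subtype.ext (by
        rw [algebraMap_extRees]
        show C _ * T ((0 : ℕ) : ℤ) = C _
        rw [Nat.cast_zero, T_zero, mul_one])
    · exact hpos m hm _ (by simpa using f.2 (m : ℤ))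
  · subst hn
    convert Ideal.mul_mem_right (𝓕.u ^ m) P (hq _ (hf (-(m : ℤ)))) using 1
    exact Subtype.ext (by
      rw [Subalgebra.coe_mul, algebraMap_extRees, Subalgebra.coe_pow]
      show C _ * T (-(m : ℤ)) = C _ * T (-1) ^ m
      rw [T_pow, mul_neg, mul_one])

/-- Elements multiplying the positive part of the filtration deeper lie in the filtration. -/
theorem mem_filtration_of_mul [IsNoetherianRing 𝓕.extRees] (hG : LocCoh.HasSk 1 𝓕.Gr 𝓕.Gr)
    (hht : 2 ≤ (𝓕.F 1).height) {b : A} (n : ℕ) (hb : ∀ m, 0 < m → ∀ g ∈ 𝓕.F m, b * g ∈ 𝓕.F (n + m)) :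
    b ∈ 𝓕.F n := by
  suffices h : ∀ i ≤ n, b ∈ 𝓕.F i from h n le_rfl
  intro i
  induction i with
  | zero => simp [𝓕.zero_eq]
  | succ i ih =>
    intro hi
    have hbi : b ∈ 𝓕.F i := ih (by omega)
    let w : 𝓕.extRees := mon 𝓕 b i (by simpa using hbi)
    by_cases hw : w ∈ Ideal.span {𝓕.u}
    · obtain ⟨c, hc⟩ := Ideal.mem_span_singleton'.1 hw
      have h0 := congrArg (fun x : 𝓕.extRees ↦ (x : A[T;T⁻¹]).coeff (i : ℤ)) hc
      have h1 : ((c * 𝓕.u : 𝓕.extRees) : A[T;T⁻¹]).coeff (i : ℤ) = (c : A[T;T⁻¹]).coeff ((i : ℤ) + 1) := by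
        show ((c : A[T;T⁻¹]) * T (-1)).coeff (i : ℤ) = _
        rw [T, AddMonoidAlgebra.coeff_mul_single_apply, mul_one]
        simp
      have h2 : (w : A[T;T⁻¹]).coeff (i : ℤ) = b := by
        show (C b * T (i : ℤ)).coeff (i : ℤ) = b
        rw [← single_eq_C_mul_T, AddMonoidAlgebra.coeff_single, Finsupp.single_eq_same]
      have h3 := c.2 ((i : ℤ) + 1)
      simp only [h1, h2] at h0
      rw [h0, show ((i : ℤ) + 1).toNat = i + 1 by omega] at h3
      exact h3
    · exfalso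
      have hne : Ideal.Quotient.mk (Ideal.span {𝓕.u}) w ≠ 0 := fun h ↦ hw (Ideal.Quotient.eq_zero_iff_mem.1 h)
      obtain ⟨p, hp, hle⟩ := exists_le_isAssociatedPrime_of_isNoetherianRing 𝓕.Gr _ hne
      haveI : p.IsPrime := hp.isPrime
      have hmin : p ∈ minimalPrimes 𝓕.Gr := (GrothLib.FibPd.hasSk_one_iff _).1 hG p hp
      let φ := Ideal.Quotient.mk (Ideal.span {𝓕.u})
      let P := p.comap φ
      have hu : 𝓕.u ∈ P := by
        rw [Ideal.mem_comap, Ideal.Quotient.eq_zero_iff_mem.2 (Ideal.mem_span_singleton_self _)]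
        exact zero_mem _
      have hPmin : P ∈ (Ideal.span {𝓕.u}).minimalPrimes := by
        refine ⟨⟨inferInstance, (Ideal.span_singleton_le_iff_mem _).2 hu⟩, fun K ⟨hK, huK⟩ hKP ↦ ?_⟩
        haveI := hK
        have hker : RingHom.ker φ ≤ K := (ker_mk 𝓕).trans_le huK
        haveI : (K.map φ).IsPrime := Ideal.map_isPrime_of_surjective Ideal.Quotient.mk_surjective hker
        have h1 : K.map φ ≤ p := Ideal.map_le_iff_le_comap.2 hKP
        have h2 : p ≤ K.map φ := hmin.2 ⟨inferInstance, bot_le⟩ h1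
        refine (Ideal.comap_mono h2).trans (le_of_eq ?_)
        rw [Ideal.comap_map_of_surjective φ Ideal.Quotient.mk_surjective, ← RingHom.ker_eq_comap_bot,
          sup_eq_left.2 hker]
      have hP1 : P.height ≤ 1 := Ideal.height_le_one_of_isPrincipal_of_mem_minimalPrimes _ _ hPmin
      have hpos : ∀ (m : ℕ), 0 < m → ∀ (c : A) (hc : c ∈ 𝓕.F m), mon 𝓕 c m (by simpa using hc) ∈ P := by
        intro m hm c hc
        refine Ideal.mem_comap.2 (hle ?_)
        rw [Submodule.mem_colon_singleton, Submodule.mem_bot, smul_eq_mul, ← map_mul,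
          Ideal.Quotient.eq_zero_iff_mem, Ideal.mem_span_singleton']
        have hbc : b * c ∈ 𝓕.F (((m : ℤ) + i + 1).toNat) :=
          𝓕.antitone (show ((m : ℤ) + i + 1).toNat ≤ n + m by omega) (hb m hm c hc)
        refine ⟨mon 𝓕 (b * c) ((m : ℤ) + i + 1) hbc, Subtype.ext ?_⟩
        show C (b * c) * T ((m : ℤ) + i + 1) * T (-1) = C c * T (m : ℤ) * (C b * T (i : ℤ))
        rw [mul_assoc, ← T_add, add_neg_cancel_right, T_add, map_mul]
        ring
      let q := P.comap (algebraMap A 𝓕.extRees)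
      have hq1 : 𝓕.F 1 ≤ q := fun g hg ↦ Ideal.mem_comap.2 (by
        convert Ideal.mul_mem_right 𝓕.u P (hpos 1 one_pos g hg) using 1
        exact Subtype.ext (by
          rw [Subalgebra.coe_mul, algebraMap_extRees]
          show C g = C g * T ((1 : ℕ) : ℤ) * T (-1)
          rw [mul_assoc, ← T_add, Nat.cast_one, add_neg_cancel, T_zero, mul_one]))
      have hq2 : 2 ≤ q.height := hht.trans (Ideal.height_mono hq1)
      obtain ⟨q0, hq0, hq0le⟩ := Ideal.exists_minimalPrimes_le (bot_le : ⊥ ≤ q)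
      haveI := hq0.isPrime
      obtain ⟨a, haq, haq0⟩ : ∃ a ∈ q, a ∉ q0 := by
        by_contra hcon
        simp only [not_exists, not_and, not_not] at hcon
        have : q.height ≤ 0 := (Ideal.height_mono hcon).trans (Ideal.height_eq_zero_iff.2 hq0).le
        exact absurd (hq2.trans this) (by norm_num)
      obtain ⟨Q0, _, hQ0, hQ0e⟩ := exists_ext_prime q0
      obtain ⟨Q, _, hQ, hQe⟩ := exists_ext_prime q
      let Q0' := Q0.comap (algebraMap 𝓕.extRees A[T;T⁻¹])
      let Q' := Q.comap (algebraMap 𝓕.extRees A[T;T⁻¹])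
      haveI : Q0'.IsPrime := Ideal.IsPrime.comap _
      haveI : Q'.IsPrime := Ideal.IsPrime.comap _
      have hlt : Q0' < Q' := by
        refine lt_of_le_of_ne (Ideal.comap_mono (hQ0e ▸ hQe ▸ Ideal.map_mono hq0le)) fun he ↦ haq0 ?_
        have h1 : algebraMap A 𝓕.extRees a ∈ Q' := by
          rw [Ideal.mem_comap, ← IsScalarTower.algebraMap_apply, ← Ideal.mem_comap, hQ]
          exact haq
        rw [← he, Ideal.mem_comap, ← IsScalarTower.algebraMap_apply, ← Ideal.mem_comap, hQ0] at h1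
        exact h1
      have hlt' : Q' < P := by
        refine lt_of_le_of_ne (fun f hf ↦ mon_mem_of_forall 𝓕 (q := q) hu (fun c hc ↦ hc) hpos f
          (coeff_map_mem (hQe ▸ hf))) fun he ↦ ?_
        have h1 : 𝓕.u ∈ Q' := he ▸ hu
        exact Ideal.IsPrime.ne_top ‹Q.IsPrime› (Ideal.eq_top_of_isUnit_mem _ h1 (isUnit_T (-1)))
      have h1 := (Ideal.height_strict_mono_of_isPrime_of_isPrime hlt').trans_le hP1
      have h2 := Ideal.height_strict_mono_of_isPrime_of_isPrime hlt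
      rw [Order.lt_one_iff.1 h1] at h2
      exact not_lt_zero h2

theorem skBound_rees_vertex [IsNoetherianRing 𝓕.extRees] [IsNoetherianRing 𝓕.rees]
    (hG : LocCoh.HasSk 1 𝓕.Gr 𝓕.Gr) (hA : LocCoh.HasSk 2 A A) (hht : 2 ≤ (𝓕.F 1).height)
    {a : A} (ha : a ∈ 𝓕.F 1) (hreg : a ∈ nonZeroDivisors A) (P : Ideal 𝓕.rees) [P.IsPrime]
    (hF : ∀ g ∈ 𝓕.F 1, algebraMap A 𝓕.rees g ∈ P)
    (hpos : ∀ (m : ℕ) (g : A) (hg : g ∈ 𝓕.F (m + 1)), (⟨_, monomial_mem 𝓕 hg⟩ : 𝓕.rees) ∈ P) :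
    GrothLib.SyntLoc.SkBound 2 (Localization.AtPrime P) := by
  classical
  let a' : 𝓕.rees := algebraMap A 𝓕.rees a
  have ha' : a' ∈ nonZeroDivisors 𝓕.rees := by
    rw [mem_nonZeroDivisors_iff_right]
    intro x hx
    apply Subtype.ext
    ext k
    have h1 := congrArg (fun y : 𝓕.rees ↦ (y : Polynomial A).coeff k) hx
    simp only [Subalgebra.coe_mul, Subalgebra.coe_algebraMap, Polynomial.algebraMap_apply,
      Algebra.algebraMap_self, RingHom.id_apply, Polynomial.coeff_mul_C, ZeroMemClass.coe_zero,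
      Polynomial.coeff_zero, a'] at h1
    rw [ZeroMemClass.coe_zero, Polynomial.coeff_zero]
    exact (mem_nonZeroDivisors_iff_right.1 hreg) _ h1
  refine skBound_two_atPrime P (hF a ha) ha' fun f hPf ↦ ?_
  have hdvd : ∀ y : 𝓕.rees, y ∈ Ideal.span {a'} → ∀ k, ∃ c ∈ 𝓕.F k, (y : Polynomial A).coeff k = c * a := by
    intro y hy k
    obtain ⟨r, rfl⟩ := Ideal.mem_span_singleton'.1 hy
    refine ⟨_, r.2 k, ?_⟩
    simp [a', Polynomial.coeff_mul_C]
  let q := P.comap (algebraMap A 𝓕.rees)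
  have hq : 𝓕.F 1 ≤ q := fun g hg ↦ hF g hg
  have hcoef : ∀ k, ∃ s ∈ q.primeCompl, ∃ c ∈ 𝓕.F k, s * (f : Polynomial A).coeff k = c * a := by
    intro k
    obtain ⟨r, hr, hr'⟩ := exists_mul_mem_of_hasSk_two hA q (hht.trans (Ideal.height_mono hq)) (hq ha) hreg
      (c := (f : Polynomial A).coeff k) fun p hp ↦ by
        obtain ⟨c, -, hc⟩ := hdvd _ (hPf _ hp) k
        rw [Subalgebra.coe_mul, Subalgebra.coe_algebraMap, Polynomial.algebraMap_apply,
          Algebra.algebraMap_self, RingHom.id_apply, Polynomial.coeff_C_mul] at hc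
        rw [hc]
        exact Ideal.mul_mem_left _ _ (Ideal.mem_span_singleton_self _)
    obtain ⟨c, hc⟩ := Ideal.mem_span_singleton'.1 hr'
    refine ⟨r, hr, c, mem_filtration_of_mul 𝓕 hG hht k fun m hm g hg ↦ ?_, hc.symm⟩
    obtain ⟨m, rfl⟩ := Nat.exists_eq_succ_of_ne_zero (by omega : m ≠ 0)
    obtain ⟨d, hd, hd'⟩ := hdvd _ (hPf _ (hpos m g hg)) (k + (m + 1))
    rw [Subalgebra.coe_mul] at hd'
    change (Polynomial.monomial (m + 1) g * (f : Polynomial A)).coeff (k + (m + 1)) = d * a at hd'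
    rw [Polynomial.coeff_monomial_mul] at hd'
    have he : c * g = r * d := (mul_cancel_right_mem_nonZeroDivisors hreg).1 (by
      linear_combination g * hc + r * hd')
    rw [he]
    exact Ideal.mul_mem_left _ _ hd
  choose r hr c hc hrc using hcoef
  let R0 := ∏ k ∈ Finset.range ((f : Polynomial A).natDegree + 1), r k
  have hR0 : R0 ∈ q.primeCompl := Submonoid.prod_mem _ fun k _ ↦ hr k
  have hmem : algebraMap A 𝓕.rees R0 * f ∈ Ideal.span {a'} := by
    have hk : ∀ k, ∃ d ∈ 𝓕.F k, R0 * (f : Polynomial A).coeff k = d * a := by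
      intro k
      rcases lt_or_ge k ((f : Polynomial A).natDegree + 1) with hk | hk
      · obtain ⟨e, he⟩ : r k ∣ R0 := Finset.dvd_prod_of_mem _ (Finset.mem_range.2 hk)
        exact ⟨e * c k, Ideal.mul_mem_left _ _ (hc k), by rw [he]; linear_combination e * hrc k⟩
      · exact ⟨0, zero_mem _, by rw [Polynomial.coeff_eq_zero_of_natDegree_lt (by omega)]; ring⟩
    choose d hd hd' using hk
    refine Ideal.mem_span_singleton'.2 ⟨⟨∑ k ∈ Finset.range ((f : Polynomial A).natDegree + 1),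
      Polynomial.monomial k (d k), sum_mem fun k _ ↦ monomial_mem 𝓕 (hd k)⟩, Subtype.ext ?_⟩
    ext k
    simp only [Subalgebra.coe_mul, Subalgebra.coe_algebraMap, Polynomial.algebraMap_apply,
      Algebra.algebraMap_self, RingHom.id_apply, Polynomial.coeff_mul_C, Polynomial.coeff_C_mul, a',
      Polynomial.finsetSum_coeff, Polynomial.coeff_monomial, Finset.sum_ite_eq', Finset.mem_range]
    split_ifs with hk
    · exact (hd' k).symm
    · rw [Polynomial.coeff_eq_zero_of_natDegree_lt (by omega)]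
      simp
  exact ⟨algebraMap A 𝓕.rees R0, hR0, hmem⟩

theorem split_S2 [IsNoetherianRing 𝓕.extRees] (h : LocCoh.HasSk 2 𝓕.extRees 𝓕.extRees) :
    LocCoh.HasSk 1 𝓕.Gr 𝓕.Gr ∧ LocCoh.HasSk 2 A A := by
  haveI : IsNoetherianRing 𝓕.Gr := Ideal.Quotient.isNoetherianRing _
  have hiff : LocCoh.HasSk 2 𝓕.extRees 𝓕.extRees ↔ (LocCoh.HasSk 1 𝓕.Gr 𝓕.Gr ∧ LocCoh.HasSk 2 A A) :=
    hasSk_two_iff 𝓕 _ Ideal.Quotient.mk_surjective Ideal.mk_ker
  exact hiff.1 h

theorem hasSk_rees [IsNoetherianRing 𝓕.rees] [IsNoetherianRing 𝓕.extRees] (hht : 2 ≤ (𝓕.F 1).height)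
    (h : LocCoh.HasSk 2 𝓕.extRees 𝓕.extRees) : LocCoh.HasSk 2 𝓕.rees 𝓕.rees := by
  obtain ⟨hG, hA⟩ := split_S2 𝓕 h
  have hA1 : LocCoh.HasSk 1 A A := by
    rw [GrothLib.SyntLoc.hasSk_iff_skBound] at hA ⊢
    exact fun p _ ↦ le_trans (min_le_min_right _ (by norm_num)) (hA p)
  obtain ⟨a, ha, hreg⟩ : ∃ a ∈ 𝓕.F 1, a ∈ nonZeroDivisors A := by
    by_contra hcon
    simp only [not_exists, not_and] at hcon
    obtain ⟨p, hp, hle⟩ : ∃ p ∈ associatedPrimes A A, 𝓕.F 1 ≤ p :=
      ((𝓕.F 1).subset_union_prime_finite (associatedPrimes.finite ..) (f := id) ⊥ ⊥ fun _ h _ _ ↦ h.1).1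
        (biUnion_associatedPrimes_eq_compl_nonZeroDivisors A ▸ fun x hx ↦ hcon x hx)
    have : (𝓕.F 1).height ≤ 0 := by
      refine (Ideal.height_mono hle).trans ?_
      haveI : p.IsPrime := hp.1
      exact (Ideal.height_eq_zero_iff.2 ((GrothLib.FibPd.hasSk_one_iff A).1 hA1 p hp)).le
    exact absurd (hht.trans this) (by norm_num)
  rw [GrothLib.SyntLoc.hasSk_iff_skBound]
  intro P _
  by_cases hF : ∀ g ∈ 𝓕.F 1, algebraMap A 𝓕.rees g ∈ P
  · by_cases hpos : ∀ (m : ℕ) (g : A) (hg : g ∈ 𝓕.F (m + 1)), (⟨_, monomial_mem 𝓕 hg⟩ : 𝓕.rees) ∈ P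
    · exact skBound_rees_vertex 𝓕 hG hA hht ha hreg P hF hpos
    · simp only [not_forall] at hpos
      obtain ⟨m, g, hg, hgP⟩ := hpos
      exact skBound_rees_pos 𝓕 h P hg hgP
  · simp only [not_forall] at hF
    obtain ⟨g, hg, hgP⟩ := hF
    exact skBound_rees_off 𝓕 hA P hg hgP

end GrothLib.ReesGr1
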